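import Cfsg.Agent.Lib.Fusion.Abelian
import Cfsg.Agent.Lib.Local.Basic
import Mathlib.GroupTheory.SpecificGroups.KleinFour

/-!
Fusion of involutions when a Sylow 2-subgroup is a four-group.
-/

set_option autoImplicit false
set_option linter.style.haveILetI false

namespace Cfsg.Lib.Invol

open Subgroup

variable {G : Type*} [Group G]

theorem klein_mul_self {P : Subgroup G} [IsKleinFour P] {x : G} (hx : x ∈ P) : x * x = 1 :=
  congrArg Subtype.val (IsKleinFour.mul_self (⟨x, hx⟩ : P))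

theorem klein_comm {P : Subgroup G} [IsKleinFour P] {x y : G} (hx : x ∈ P) (hy : y ∈ P) :
    x * y = y * x :=
  congrArg Subtype.val
    ((IsKleinFour.isMulCommutative (G := P)).is_comm.comm ⟨x, hx⟩ ⟨y, hy⟩)

theorem klein_mem_cases {P : Subgroup G} [IsKleinFour P] {a b x : G} (ha : a ∈ P) (hb : b ∈ P)
    (ha1 : a ≠ 1) (hb1 : b ≠ 1) (hab : a ≠ b) (hx : x ∈ P) (hx1 : x ≠ 1) :
    x = a ∨ x = b ∨ x = a * b := by
  classical
  haveI : Finite P := IsKleinFour.instFinite
  let _ := Fintype.ofFinite P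
  have h := Finset.mem_univ (⟨x, hx⟩ : P)
  rw [← IsKleinFour.eq_finset_univ (x := (⟨a, ha⟩ : P)) (y := ⟨b, hb⟩)
    (by simpa [Subtype.ext_iff] using ha1) (by simpa [Subtype.ext_iff] using hb1)
    (by simpa [Subtype.ext_iff] using hab)] at h
  simp only [Finset.mem_insert, Finset.mem_singleton, Subtype.ext_iff, Subgroup.coe_mul,
    Subgroup.coe_one] at h
  rcases h with h | h | h | h
  exacts [Or.inr (Or.inr h), Or.inl h, Or.inr (Or.inl h), absurd h hx1]

/-- If the normalizer of a Sylow four-group moves one of its elements, the three involutions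
are conjugate. -/
theorem klein_isConj_of_moved [Finite G] (P : Sylow 2 G) [IsKleinFour (P : Subgroup G)] {g a : G}
    (hg : g ∈ normalizer ((P : Subgroup G) : Set G)) (ha : a ∈ (P : Subgroup G))
    (hga : g * a * g⁻¹ ≠ a) {x y : G} (hx : x ∈ (P : Subgroup G)) (hx1 : x ≠ 1)
    (hy : y ∈ (P : Subgroup G)) (hy1 : y ≠ 1) : IsConj x y := by
  have ha1 : a ≠ 1 := by rintro rfl; exact hga (by simp)
  set b := g * a * g⁻¹ with hbdef
  have hb : b ∈ (P : Subgroup G) := (mem_normalizer_iff.mp hg a).mp ha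
  have hb1 : b ≠ 1 := fun h => ha1 (by simpa [hbdef] using h)
  have hc : g * b * g⁻¹ ∈ (P : Subgroup G) := (mem_normalizer_iff.mp hg b).mp hb
  have hc1 : g * b * g⁻¹ ≠ 1 := fun h => hb1 (by simpa using h)
  have hab : g * b * g⁻¹ = a * b := by
    rcases klein_mem_cases ha hb ha1 hb1 (Ne.symm hga) hc hc1 with h | h | h
    · -- `g` would swap `a` and `b`
      exfalso
      obtain ⟨k, m, hm, hord⟩ := Nat.exists_eq_two_pow_mul_odd (orderOf_pos g).ne'
      have h2 : IsPGroup 2 (zpowers (g ^ m)) := by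
        refine IsPGroup.of_card (n := k) ?_
        rw [Nat.card_zpowers, orderOf_pow, hord, Nat.gcd_eq_right (dvd_mul_left m (2 ^ k)),
          Nat.mul_div_cancel _ hm.pos]
      have hgm : g ^ m ∈ (P : Subgroup G) := by
        have hs := Cfsg.Lib.Local.isPGroup_sup_of_le_normalizer h2 P.isPGroup'
          (zpowers_le.mpr (pow_mem hg m))
        exact P.is_maximal' hs le_sup_right ▸ mem_sup_left (mem_zpowers _)
      obtain ⟨j, rfl⟩ := hm
      have hfix : ∀ i : ℕ, g ^ (2 * i) * a * (g ^ (2 * i))⁻¹ = a := by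
        intro i
        induction i with
        | zero => simp
        | succ i ih =>
          have he : g ^ (2 * (i + 1)) * a * (g ^ (2 * (i + 1)))⁻¹ =
              g * (g * (g ^ (2 * i) * a * (g ^ (2 * i))⁻¹) * g⁻¹) * g⁻¹ := by
            rw [show 2 * (i + 1) = 1 + (1 + 2 * i) by ring, pow_add, pow_add, pow_one]
            group
          rw [he, ih, ← hbdef, h]
      have hmove : g ^ (2 * j + 1) * a * (g ^ (2 * j + 1))⁻¹ = b := by
        rw [pow_succ']
        calc g * g ^ (2 * j) * a * (g * g ^ (2 * j))⁻¹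
            = g * (g ^ (2 * j) * a * (g ^ (2 * j))⁻¹) * g⁻¹ := by group
          _ = b := by rw [hfix j]
      rw [klein_comm hgm ha, mul_inv_cancel_right] at hmove
      exact hga hmove.symm
    · exact absurd (mul_left_cancel (mul_right_cancel (h.trans hbdef))) hga
    · exact h
  have hcab : IsConj a b := isConj_iff.mpr ⟨g, rfl⟩
  have hcac : IsConj a (a * b) := hcab.trans (isConj_iff.mpr ⟨g, hab⟩)
  have key : ∀ z ∈ (P : Subgroup G), z ≠ 1 → IsConj a z := by
    intro z hz hz1
    rcases klein_mem_cases ha hb ha1 hb1 (Ne.symm hga) hz hz1 with rfl | rfl | rfl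
    exacts [IsConj.refl _, hcab, hcac]
  exact (key x hx hx1).symm.trans (key y hy hy1)

theorem klein_class_injective [Finite G] (P : Sylow 2 G) [IsKleinFour (P : Subgroup G)]
    (h : normalizer ((P : Subgroup G) : Set G) ≤ centralizer ((P : Subgroup G) : Set G))
    {x y : G} (hx : x ∈ (P : Subgroup G)) (hy : y ∈ (P : Subgroup G)) (hxy : IsConj x y) : x = y := by
  haveI : IsMulCommutative (P : Subgroup G) := IsKleinFour.isMulCommutative
  obtain ⟨g, rfl⟩ := isConj_iff.mp hxy
  obtain ⟨n, hn, he⟩ := Cfsg.Lib.Fusion.exists_normalizer_conj_of_abelian P hx hy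
  rw [← he, ← mem_centralizer_iff.mp (h hn) x hx, mul_inv_cancel_right]

theorem klein_exists_rep [Finite G] (P : Sylow 2 G) {t : G} (ht : orderOf t = 2) :
    ∃ x ∈ (P : Subgroup G), orderOf x = 2 ∧ IsConj x t := by
  obtain ⟨Q, hQ⟩ := (IsPGroup.of_card (n := 1) (by rw [Nat.card_zpowers, ht, pow_one]) :
    IsPGroup 2 (zpowers t)).exists_le_sylow
  obtain ⟨g, hg⟩ := MulAction.exists_smul_eq G Q P
  refine ⟨g * t * g⁻¹, ?_, ?_, (isConj_iff.mpr ⟨g, rfl⟩).symm⟩
  · have h1 := smul_mem_pointwise_smul t (MulAut.conj g) (Q : Subgroup G) (hQ (mem_zpowers t))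
    rw [← hg]
    exact h1
  · rw [← ht]
    exact orderOf_injective (MulAut.conj g).toMonoidHom (MulAut.conj g).injective t

theorem klein_class_count [Finite G] (P : Sylow 2 G) [IsKleinFour (P : Subgroup G)] :
    ((normalizer ((P : Subgroup G) : Set G) ≤ centralizer ((P : Subgroup G) : Set G)) ∧
      Nat.card {C : ConjClasses G // ∃ t : G, orderOf t = 2 ∧ ConjClasses.mk t = C} = 3) ∨
    (¬ (normalizer ((P : Subgroup G) : Set G) ≤ centralizer ((P : Subgroup G) : Set G)) ∧
      Nat.card {C : ConjClasses G // ∃ t : G, orderOf t = 2 ∧ ConjClasses.mk t = C} = 1) := by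
  classical
  have hord : ∀ x ∈ (P : Subgroup G), x ≠ 1 → orderOf x = 2 := fun x hx hx1 =>
    orderOf_eq_prime (by rw [pow_two, klein_mul_self hx]) hx1
  by_cases h : normalizer ((P : Subgroup G) : Set G) ≤ centralizer ((P : Subgroup G) : Set G)
  · refine Or.inl ⟨h, ?_⟩
    let f : {x : (P : Subgroup G) // x ≠ 1} →
        {C : ConjClasses G // ∃ t : G, orderOf t = 2 ∧ ConjClasses.mk t = C} := fun x =>
      ⟨ConjClasses.mk (x.1 : G), x.1, hord _ x.1.2 (fun e => x.2 (Subtype.ext e)), rfl⟩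
    have hf : Function.Bijective f := by
      refine ⟨fun x y hxy => Subtype.ext (Subtype.ext ?_), ?_⟩
      · exact klein_class_injective P h x.1.2 y.1.2
          (ConjClasses.mk_eq_mk_iff_isConj.mp (congrArg Subtype.val hxy))
      · rintro ⟨C, t, ht, rfl⟩
        obtain ⟨x, hx, hx2, hxt⟩ := klein_exists_rep P ht
        refine ⟨⟨⟨x, hx⟩, fun e => ?_⟩, Subtype.ext (ConjClasses.mk_eq_mk_iff_isConj.mpr hxt)⟩
        have e' : x = 1 := congrArg Subtype.val e
        rw [e'] at hx2
        simp at hx2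
    rw [← Nat.card_eq_of_bijective f hf]
    haveI : Finite (P : Subgroup G) := inferInstance
    let _ := Fintype.ofFinite (P : Subgroup G)
    rw [Nat.card_eq_fintype_card, Fintype.card_subtype_compl, Fintype.card_subtype_eq,
      IsKleinFour.card_four']
  · refine Or.inr ⟨h, ?_⟩
    obtain ⟨g, hg, hgc⟩ := SetLike.not_le_iff_exists.mp h
    obtain ⟨a, ha, hga⟩ : ∃ a ∈ (P : Subgroup G), g * a * g⁻¹ ≠ a := by
      by_contra hcon
      push Not at hcon
      exact hgc (mem_centralizer_iff.mpr fun z hz => (mul_inv_eq_iff_eq_mul.mp (hcon z hz)).symm)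
    have ha1 : a ≠ 1 := by rintro rfl; exact hga (by simp)
    rw [Nat.card_eq_one_iff_unique]
    refine ⟨⟨?_⟩, ⟨⟨ConjClasses.mk a, a, hord a ha ha1, rfl⟩⟩⟩
    rintro ⟨C, t, ht, rfl⟩ ⟨C', t', ht', rfl⟩
    obtain ⟨x, hx, hx2, hxt⟩ := klein_exists_rep P ht
    obtain ⟨y, hy, hy2, hyt⟩ := klein_exists_rep P ht'
    have hne : ∀ z : G, orderOf z = 2 → z ≠ 1 := fun z hz e => by simp [e] at hz
    exact Subtype.ext (ConjClasses.mk_eq_mk_iff_isConj.mpr (hxt.symm.trans
      ((klein_isConj_of_moved P hg ha hga hx (hne x hx2) hy (hne y hy2)).trans hyt)))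

end Cfsg.Lib.Invol
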