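import Cfsg.Agent.Lib.Invol.Basic
import Mathlib.GroupTheory.Transfer
import Mathlib.GroupTheory.Nilpotent

/-!
Cyclic Sylow 2-subgroups give subgroups of index 2.
-/

set_option autoImplicit false

namespace Cfsg.Lib.Invol

variable {G : Type*} [Group G] [Finite G]

/-- A normal subgroup with quotient a nontrivial 2-group lies in a subgroup of index 2. -/
theorem exists_index_two_of_normal (N : Subgroup G) [N.Normal] {a : ℕ}
    (ha : N.index = 2 ^ (a + 1)) : ∃ H : Subgroup G, N ≤ H ∧ H.index = 2 := by
  have : Fact (Nat.Prime 2) := ⟨Nat.prime_two⟩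
  rw [Subgroup.index_eq_card] at ha
  obtain ⟨K, hK⟩ := Sylow.exists_subgroup_card_pow_prime (G := G ⧸ N) 2 (n := a)
    (ha ▸ pow_dvd_pow 2 (Nat.le_succ a))
  refine ⟨K.comap (QuotientGroup.mk' N), ?_, ?_⟩
  · intro x hx
    rw [Subgroup.mem_comap, QuotientGroup.mk'_apply, (QuotientGroup.eq_one_iff x).mpr hx]
    exact one_mem _
  · rw [Subgroup.index_comap_of_surjective _ (QuotientGroup.mk'_surjective N)]
    have h := Subgroup.card_mul_index K
    rw [hK, ha, pow_succ] at h
    exact Nat.eq_of_mul_eq_mul_left (by positivity) h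

/-- A group of even order with cyclic Sylow 2-subgroup has a subgroup of index 2. -/
theorem exists_index_two_of_isCyclic (heven : Even (Nat.card G)) (T : Sylow 2 G)
    (hT : IsCyclic (T : Subgroup G)) : ∃ H : Subgroup G, H.index = 2 := by
  have : Fact (Nat.Prime 2) := ⟨Nat.prime_two⟩
  have hmin : (Nat.card G).minFac = 2 := Nat.minFac_eq_two_iff _ |>.mpr (even_iff_two_dvd.mp heven)
  have hc := IsCyclic.isComplement' hmin hT
  set N := (MonoidHom.transferSylow T (hT.normalizer_le_centralizer hmin)).ker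
  obtain ⟨k, hk⟩ := T.2.exists_card_eq
  have hidx : N.index = 2 ^ k := by rw [hc.symm.index_eq_card]; exact hk
  rcases k with _ | a
  · exfalso
    exact T.not_dvd_index (by
      have h := Subgroup.card_mul_index (T : Subgroup G)
      rw [hk, pow_zero, one_mul] at h
      rw [h]; exact even_iff_two_dvd.mp heven)
  · obtain ⟨H, -, hH⟩ := exists_index_two_of_normal N hidx
    exact ⟨H, hH⟩

theorem eq_of_pow_two_group_cyclic {C : Subgroup G} (hC : IsCyclic C) {x y : G} (hx : x ∈ C)
    (hy : y ∈ C) (hx2 : orderOf x = 2) (hy2 : orderOf y = 2) : x = y := by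
  classical
  have := Fintype.ofFinite C
  by_contra hne
  have h := IsCyclic.card_pow_eq_one_le (α := C) (n := 2) (by norm_num)
  have hsub : ({(1 : C), ⟨x, hx⟩, ⟨y, hy⟩} : Finset C) ⊆
      Finset.univ.filter (fun a : C => a ^ 2 = 1) := by
    intro a ha
    simp only [Finset.mem_insert, Finset.mem_singleton] at ha
    simp only [Finset.mem_filter, Finset.mem_univ, true_and]
    rcases ha with rfl | rfl | rfl
    · simp
    · exact Subtype.ext (by rw [SubmonoidClass.coe_pow, pow_two]; exact inv_mul_self hx2)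
    · exact Subtype.ext (by rw [SubmonoidClass.coe_pow, pow_two]; exact inv_mul_self hy2)
  have h1 := Finset.card_le_card hsub
  rw [Finset.card_eq_three.mpr ⟨_, _, _, fun h => ne_one hx2 (congrArg Subtype.val h).symm,
    fun h => ne_one hy2 (congrArg Subtype.val h).symm,
    fun h => hne (congrArg Subtype.val h), rfl⟩] at h1
  omega

/-- A cyclic Sylow 2-subgroup of an involution centraliser is a Sylow 2-subgroup of the group. -/
theorem exists_index_two_of_centralizer_cyclic {x : G} (hx : orderOf x = 2)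
    (S : Sylow 2 ↥(Subgroup.centralizer ({x} : Set G)))
    (hS : IsCyclic (S : Subgroup ↥(Subgroup.centralizer ({x} : Set G)))) :
    ∃ H : Subgroup G, H.index = 2 := by
  have : Fact (Nat.Prime 2) := ⟨Nat.prime_two⟩
  revert S
  set C := Subgroup.centralizer ({x} : Set G) with hC
  intro S hS
  have hxC : x ∈ C := by rw [hC, Subgroup.mem_centralizer_singleton_iff]
  set R := (S : Subgroup C).map C.subtype with hR
  have hRp : IsPGroup 2 R := S.2.map _
  have hRcyc : IsCyclic R := by
    have e := (S : Subgroup C).equivMapOfInjective C.subtype C.subtype_injective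
    exact e.isCyclic.mp hS
  have hxS : (⟨x, hxC⟩ : C) ∈ (S : Subgroup C) := by
    have hZ : IsPGroup 2 (Subgroup.zpowers (⟨x, hxC⟩ : C)) :=
      IsPGroup.of_card (n := 1) (by rw [Nat.card_zpowers, ← Subgroup.orderOf_coe, pow_one]; exact hx)
    have hle : Subgroup.zpowers (⟨x, hxC⟩ : C) ≤ Subgroup.normalizer ((S : Subgroup C) : Set C) := by
      rw [Subgroup.zpowers_le, Subgroup.mem_normalizer_iff]
      intro a
      have ha : (⟨x, hxC⟩ : C) * a * (⟨x, hxC⟩ : C)⁻¹ = a := by
        apply mul_inv_eq_iff_eq_mul.mpr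
        exact Subtype.ext ((Subgroup.mem_centralizer_singleton_iff.mp a.2).symm)
      rw [ha]
    have h := S.3 (IsPGroup.to_sup_of_normal_right' hZ S.2 hle) le_sup_right
    exact h.le ((le_sup_left : Subgroup.zpowers (⟨x, hxC⟩ : C) ≤ _) (Subgroup.mem_zpowers _))
  have hxR : x ∈ R := ⟨_, hxS, rfl⟩
  obtain ⟨T, hT⟩ := hRp.exists_le_sylow
  have hTR : (T : Subgroup G) = R := by
    by_contra hne
    have hnil : Group.IsNilpotent (T : Subgroup G) := T.2.isNilpotent
    have hlt : R.subgroupOf (T : Subgroup G) < ⊤ := by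
      rw [lt_top_iff_ne_top, Ne, Subgroup.subgroupOf_eq_top]
      exact fun h => hne (le_antisymm h hT)
    have := Group.normalizerCondition_of_isNilpotent (G := (T : Subgroup G)) _ hlt
    obtain ⟨n, hn, hnot⟩ := SetLike.exists_of_lt this
    rw [Subgroup.mem_subgroupOf] at hnot
    rw [Subgroup.mem_normalizer_iff] at hn
    -- `n` normalises `R`, so fixes its only involution
    have hnx : (n : G) * x * (n : G)⁻¹ = x := by
      refine eq_of_pow_two_group_cyclic hRcyc ?_ hxR (by rw [orderOf_conj_eq, hx]) hx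
      have := (hn ⟨x, hT hxR⟩).mp (by rw [Subgroup.mem_subgroupOf]; exact hxR)
      rwa [Subgroup.mem_subgroupOf] at this
    have hnC : (n : G) ∈ C := by
      rw [hC, Subgroup.mem_centralizer_singleton_iff]
      exact mul_inv_eq_iff_eq_mul.mp hnx
    have hle : (S : Subgroup C) ≤ ((T : Subgroup G)).subgroupOf C := fun s hs => hT ⟨s, hs, rfl⟩
    have h := S.3 (T.2.comap_of_injective C.subtype C.subtype_injective) hle
    exact hnot ⟨⟨n, hnC⟩, h.le (show (⟨n, hnC⟩ : C) ∈ (T : Subgroup G).subgroupOf C from n.2), rfl⟩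
  refine exists_index_two_of_isCyclic ?_ T (by rw [hTR]; exact hRcyc)
  rw [even_iff_two_dvd, ← hx]
  exact orderOf_dvd_natCard x

end Cfsg.Lib.Invol
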