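import Mathlib.GroupTheory.OrderOfElement
import Mathlib.GroupTheory.Perm.Cycle.Type
import Mathlib.GroupTheory.SpecificGroups.Dihedral
import Mathlib.GroupTheory.Subgroup.Centralizer
import Mathlib.GroupTheory.Sylow
import Mathlib.Data.ZMod.Basic

/-!
Elementary facts on involutions and the dihedral subgroup generated by two of them.
-/

set_option autoImplicit false

namespace Cfsg.Lib.Invol

variable {G : Type*} [Group G]

theorem inv_mul_self {t : G} (ht : orderOf t = 2) : t * t = 1 := by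
  rw [← pow_two, ← ht, pow_orderOf_eq_one]

theorem inv_eq_self {t : G} (ht : orderOf t = 2) : t⁻¹ = t :=
  inv_eq_of_mul_eq_one_left (inv_mul_self ht)

theorem ne_one {t : G} (ht : orderOf t = 2) : t ≠ 1 := by
  intro h; rw [h, orderOf_one] at ht; omega

theorem orderOf_eq_two_of {t : G} (h1 : t ≠ 1) (h : t * t = 1) : orderOf t = 2 :=
  orderOf_eq_prime (by rw [pow_two, h]) h1

theorem orderOf_conj_eq (g t : G) : orderOf (g * t * g⁻¹) = orderOf t := by
  have := orderOf_injective (MulAut.conj g).toMonoidHom (MulAut.conj g).injective t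
  simpa using this

theorem isConj_iff_exists {a b : G} : IsConj a b ↔ ∃ g : G, g * a * g⁻¹ = b := isConj_iff

/-- In a group, the first of two involutions inverts their product. -/
theorem conj_mul_left {x y : G} (hx : orderOf x = 2) (hy : orderOf y = 2) :
    x * (x * y) * x⁻¹ = (x * y)⁻¹ := by
  rw [mul_inv_rev, inv_eq_self hx, inv_eq_self hy, ← mul_assoc, inv_mul_self hx, one_mul]

theorem conj_mul_right {x y : G} (hx : orderOf x = 2) (hy : orderOf y = 2) :
    y * (x * y) * y⁻¹ = (x * y)⁻¹ := by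
  rw [mul_inv_rev, inv_eq_self hx, inv_eq_self hy, mul_assoc, mul_assoc, inv_mul_self hy, mul_one]

theorem conj_zpow_of_inverts {x r : G} (h : x * r * x⁻¹ = r⁻¹) (k : ℤ) :
    x * r ^ k * x⁻¹ = r ^ (-k) := by
  rw [← conj_zpow, h, inv_zpow, zpow_neg]

theorem zpow_mul_of_inverts {x r : G} (hx : x * x = 1) (h : x * r * x⁻¹ = r⁻¹) (k : ℤ) :
    r ^ k * x = x * r ^ (-k) := by
  have h1 := conj_zpow_of_inverts h (-k)
  rw [neg_neg] at h1
  have hx' : x⁻¹ = x := inv_eq_of_mul_eq_one_left hx
  rw [← h1, hx']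
  simp only [mul_assoc, hx, mul_one]

/-- Elements outside the rotation subgroup square to one. -/
theorem mul_zpow_sq {x r : G} (hx : x * x = 1) (h : x * r * x⁻¹ = r⁻¹) (k : ℤ) :
    (x * r ^ k) * (x * r ^ k) = 1 := by
  calc (x * r ^ k) * (x * r ^ k) = x * (r ^ k * x) * r ^ k := by group
    _ = x * (x * r ^ (-k)) * r ^ k := by rw [zpow_mul_of_inverts hx h]
    _ = (x * x) * (r ^ (-k) * r ^ k) := by group
    _ = 1 := by rw [hx, ← zpow_add]; simp

/-- The dihedral subgroup generated by two involutions, elementwise. -/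
theorem mem_closure_pair {x y : G} (hx : orderOf x = 2) (hy : orderOf y = 2) {d : G} :
    d ∈ Subgroup.closure ({x, y} : Set G) ↔
      ∃ k : ℤ, d = (x * y) ^ k ∨ d = x * (x * y) ^ k := by
  have hxx := inv_mul_self hx
  have h := conj_mul_left hx hy
  constructor
  · intro hd
    induction hd using Subgroup.closure_induction with
    | mem z hz =>
      rcases hz with rfl | hz
      · exact ⟨0, Or.inr (by simp)⟩
      · rw [Set.mem_singleton_iff] at hz
        subst hz
        exact ⟨1, Or.inr (by rw [zpow_one, ← mul_assoc, hxx, one_mul])⟩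
    | one => exact ⟨0, Or.inl (by simp)⟩
    | mul a b _ _ ha hb =>
      obtain ⟨i, hi⟩ := ha
      obtain ⟨j, hj⟩ := hb
      rcases hi with rfl | rfl <;> rcases hj with rfl | rfl
      · exact ⟨i + j, Or.inl (by rw [zpow_add])⟩
      · exact ⟨-i + j, Or.inr (by rw [← mul_assoc, zpow_mul_of_inverts hxx h, mul_assoc, zpow_add])⟩
      · exact ⟨i + j, Or.inr (by rw [mul_assoc, zpow_add])⟩
      · refine ⟨-i + j, Or.inl ?_⟩
        rw [show x * (x * y) ^ i * (x * (x * y) ^ j) = x * ((x * y) ^ i * x) * (x * y) ^ j by group,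
          zpow_mul_of_inverts hxx h, ← mul_assoc x x, hxx, one_mul, zpow_add]
    | inv a _ ha =>
      obtain ⟨i, hi⟩ := ha
      rcases hi with rfl | rfl
      · exact ⟨-i, Or.inl (by rw [zpow_neg])⟩
      · exact ⟨i, Or.inr (inv_eq_of_mul_eq_one_left (mul_zpow_sq hxx h i))⟩
  · rintro ⟨k, hk⟩
    have hxm : x ∈ Subgroup.closure ({x, y} : Set G) := Subgroup.subset_closure (by simp)
    have hym : y ∈ Subgroup.closure ({x, y} : Set G) := Subgroup.subset_closure (by simp)
    rcases hk with rfl | rfl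
    · exact Subgroup.zpow_mem _ (Subgroup.mul_mem _ hxm hym) k
    · exact Subgroup.mul_mem _ hxm (Subgroup.zpow_mem _ (Subgroup.mul_mem _ hxm hym) k)

/-- An involution is not a power of its product with a different involution. -/
theorem notMem_zpowers {x y : G} (hx : orderOf x = 2) (hy : orderOf y = 2) (hxy : x ≠ y) :
    x ∉ Subgroup.zpowers (x * y) := by
  intro hmem
  obtain ⟨k, hk⟩ := Subgroup.mem_zpowers_iff.mp hmem
  have hc : x * (x * y) = (x * y) * x := by
    conv_lhs => arg 1; rw [← hk]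
    conv_rhs => arg 2; rw [← hk]
    rw [← zpow_add_one, add_comm, zpow_add, zpow_one]
  have hr : (x * y)⁻¹ = x * y := by
    rw [← conj_mul_left hx hy, hc, mul_assoc, mul_inv_cancel, mul_one]
  have hr2 : (x * y) ^ (2 : ℤ) = 1 := by
    rw [zpow_two]; nth_rewrite 1 [← hr]; rw [inv_mul_cancel]
  rcases Int.even_or_odd k with ⟨j, hj⟩ | ⟨j, hj⟩
  · rw [hj, ← two_mul, zpow_mul, hr2, one_zpow] at hk
    exact ne_one hx hk.symm
  · rw [hj, zpow_add_one, zpow_mul, hr2, one_zpow, one_mul] at hk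
    exact ne_one hy (mul_eq_left.mp hk)

/-- The conjugates of the first involution under the dihedral subgroup. -/
theorem conj_of_mem_closure_pair {x y : G} (hx : orderOf x = 2) (hy : orderOf y = 2) {d : G}
    (hd : d ∈ Subgroup.closure ({x, y} : Set G)) :
    ∃ j : ℤ, d * x * d⁻¹ = x * (x * y) ^ (2 * j) := by
  have hxx := inv_mul_self hx
  have h := conj_mul_left hx hy
  obtain ⟨k, rfl | rfl⟩ := (mem_closure_pair hx hy).mp hd
  · exact ⟨-k, by rw [zpow_mul_of_inverts hxx h, mul_assoc, ← zpow_neg, ← zpow_add, two_mul]⟩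
  · refine ⟨k, ?_⟩
    calc x * (x * y) ^ k * x * (x * (x * y) ^ k)⁻¹
        = x * ((x * y) ^ k * x) * ((x * y) ^ k)⁻¹ * x⁻¹ := by group
      _ = (x * x) * (x * y) ^ (-k) * ((x * y) ^ k)⁻¹ * x⁻¹ := by
          rw [zpow_mul_of_inverts hxx h]; group
      _ = (x * y) ^ (-(2 * k)) * x := by
          rw [hxx, one_mul, ← zpow_neg, ← zpow_add, inv_eq_self hx]; congr 2; ring
      _ = x * (x * y) ^ (2 * k) := by
          rw [zpow_mul_of_inverts hxx h, neg_neg]

/-- The homomorphism from a dihedral group given by an inverted element. -/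
noncomputable def dihedralHom {x r : G} (n : ℕ) (hn : r ^ n = 1) (hx : x * x = 1)
    (h : x * r * x⁻¹ = r⁻¹) : DihedralGroup n →* G where
  toFun
    | DihedralGroup.r i => r ^ (i.cast : ℤ)
    | DihedralGroup.sr i => x * r ^ (i.cast : ℤ)
  map_one' := by
    change r ^ (((0 : ZMod n)).cast : ℤ) = 1
    rw [ZMod.cast_zero, zpow_zero]
  map_mul' := by
    have key : ∀ a b : ℤ, (a : ZMod n) = (b : ZMod n) → r ^ a = r ^ b := by
      intro a b hab
      rw [zpow_eq_zpow_iff_modEq]
      have : a ≡ b [ZMOD n] := (ZMod.intCast_eq_intCast_iff a b n).mp hab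
      exact Int.ModEq.of_dvd (Int.natCast_dvd_natCast.mpr (orderOf_dvd_of_pow_eq_one hn)) this
    rintro (i | i) (j | j)
    · change r ^ (((i + j : ZMod n)).cast : ℤ) = r ^ (i.cast : ℤ) * r ^ (j.cast : ℤ)
      rw [← zpow_add]; apply key; simp
    · change x * r ^ (((j - i : ZMod n)).cast : ℤ) = r ^ (i.cast : ℤ) * (x * r ^ (j.cast : ℤ))
      rw [← mul_assoc, zpow_mul_of_inverts hx h, mul_assoc, ← zpow_add]
      congr 1
      apply key; simp; ring
    · change x * r ^ (((i + j : ZMod n)).cast : ℤ) = x * r ^ (i.cast : ℤ) * r ^ (j.cast : ℤ)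
      rw [mul_assoc, ← zpow_add]; congr 1; apply key; simp
    · change r ^ (((j - i : ZMod n)).cast : ℤ) = x * r ^ (i.cast : ℤ) * (x * r ^ (j.cast : ℤ))
      rw [show x * r ^ (i.cast : ℤ) * (x * r ^ (j.cast : ℤ))
          = x * (r ^ (i.cast : ℤ) * x) * r ^ (j.cast : ℤ) by group,
        zpow_mul_of_inverts hx h, ← mul_assoc x x, hx, one_mul, ← zpow_add]
      apply key; simp; ring

theorem dihedralHom_r {x r : G} (n : ℕ) (hn : r ^ n = 1) (hx : x * x = 1)
    (h : x * r * x⁻¹ = r⁻¹) (i : ZMod n) :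
    dihedralHom n hn hx h (DihedralGroup.r i) = r ^ (i.cast : ℤ) := rfl

theorem dihedralHom_sr {x r : G} (n : ℕ) (hn : r ^ n = 1) (hx : x * x = 1)
    (h : x * r * x⁻¹ = r⁻¹) (i : ZMod n) :
    dihedralHom n hn hx h (DihedralGroup.sr i) = x * r ^ (i.cast : ℤ) := rfl

theorem dihedralHom_injective {x r : G} (hx : x * x = 1) (h : x * r * x⁻¹ = r⁻¹)
    (hxm : x ∉ Subgroup.zpowers r) :
    Function.Injective (dihedralHom (orderOf r) (pow_orderOf_eq_one r) hx h) := by
  rw [injective_iff_map_eq_one]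
  rintro (i | i) hi
  · rw [dihedralHom_r, ← zpow_zero r, zpow_eq_zpow_iff_modEq,
      ← ZMod.intCast_eq_intCast_iff] at hi
    simp at hi
    rw [hi]; rfl
  · rw [dihedralHom_sr] at hi
    exact absurd (eq_inv_of_mul_eq_one_left hi ▸
      Subgroup.inv_mem _ (Subgroup.zpow_mem _ (Subgroup.mem_zpowers r) _)) hxm

theorem dihedralHom_range {x y : G} (hx : orderOf x = 2) (hy : orderOf y = 2) :
    (dihedralHom (orderOf (x * y)) (pow_orderOf_eq_one _) (inv_mul_self hx)
      (conj_mul_left hx hy)).range = Subgroup.closure ({x, y} : Set G) := by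
  have key : ∀ k : ℤ, (x * y) ^ ((k : ZMod (orderOf (x * y))).cast : ℤ) = (x * y) ^ k := by
    intro k
    rw [zpow_eq_zpow_iff_modEq, ← ZMod.intCast_eq_intCast_iff, ZMod.intCast_zmod_cast]
  apply le_antisymm
  · rintro d ⟨(i | i), rfl⟩
    · exact (mem_closure_pair hx hy).mpr ⟨_, Or.inl rfl⟩
    · exact (mem_closure_pair hx hy).mpr ⟨_, Or.inr rfl⟩
  · intro d hd
    obtain ⟨k, hk | hk⟩ := (mem_closure_pair hx hy).mp hd
    · exact ⟨DihedralGroup.r (k : ZMod _), by rw [dihedralHom_r, key, hk]⟩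
    · exact ⟨DihedralGroup.sr (k : ZMod _), by rw [dihedralHom_sr, key, hk]⟩

/-- Two involutions with product of odd order are conjugate inside the group they generate. -/
theorem exists_conj_of_odd {x y : G} (hx : orderOf x = 2) (hy : orderOf y = 2)
    (hodd : Odd (orderOf (x * y))) :
    ∃ d ∈ Subgroup.closure ({x, y} : Set G), d * x * d⁻¹ = y := by
  obtain ⟨m, hm⟩ := hodd
  refine ⟨(x * y) ^ (m : ℤ), (mem_closure_pair hx hy).mpr ⟨_, Or.inl rfl⟩, ?_⟩
  have h1 := zpow_mul_of_inverts (inv_mul_self hx) (conj_mul_left hx hy) (m : ℤ)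
  rw [h1, mul_assoc, ← zpow_neg, ← zpow_add]
  have h2 : (x * y) ^ (-(m : ℤ) + -(m : ℤ)) = x * y := by
    nth_rewrite 2 [← zpow_one (x * y)]
    rw [zpow_eq_zpow_iff_modEq, hm, Int.modEq_iff_dvd]
    exact ⟨1, by push_cast; ring⟩
  rw [h2, ← mul_assoc, inv_mul_self hx, one_mul]

theorem isConj_of_odd {x y : G} (hx : orderOf x = 2) (hy : orderOf y = 2)
    (hodd : Odd (orderOf (x * y))) : IsConj x y := by
  obtain ⟨d, _, hd⟩ := exists_conj_of_odd hx hy hodd
  exact isConj_iff.mpr ⟨d, hd⟩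

/-- If the product of two involutions has even order, half the product is a central involution
of the subgroup they generate. -/
theorem central_involution [Finite G] {x y : G} (hx : orderOf x = 2) (hy : orderOf y = 2)
    (heven : Even (orderOf (x * y))) :
    orderOf ((x * y) ^ (orderOf (x * y) / 2)) = 2 ∧
      Commute ((x * y) ^ (orderOf (x * y) / 2)) x ∧
      Commute ((x * y) ^ (orderOf (x * y) / 2)) y := by
  set r := x * y with hr
  obtain ⟨m, hm⟩ := heven
  have hpos : 0 < orderOf r := orderOf_pos r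
  have hdiv : orderOf r / 2 = m := by omega
  rw [hdiv]
  have hz : r ^ (-(m : ℤ)) = r ^ (m : ℤ) := by
    rw [zpow_eq_zpow_iff_modEq, hm, Int.modEq_iff_dvd]
    exact ⟨1, by push_cast; ring⟩
  have hcx : Commute (r ^ m) x := by
    show r ^ m * x = x * r ^ m
    rw [← zpow_natCast, zpow_mul_of_inverts (inv_mul_self hx) (conj_mul_left hx hy), hz]
  have hcy : Commute (r ^ m) y := by
    show r ^ m * y = y * r ^ m
    rw [← zpow_natCast, zpow_mul_of_inverts (inv_mul_self hy) (conj_mul_right hx hy), hz]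
  refine ⟨?_, hcx, hcy⟩
  rw [orderOf_pow, hm, show m + m = m * 2 by omega, Nat.gcd_mul_right_left]
  exact Nat.mul_div_cancel_left _ (by omega)

end Cfsg.Lib.Invol
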