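import Mathlib.GroupTheory.SpecificGroups.Quaternion
import Mathlib.GroupTheory.SpecificGroups.Cyclic
import Mathlib.GroupTheory.PGroup

/-!
Generalized quaternion groups have one involution; groups with a unique subgroup of order `p`.
-/

set_option autoImplicit false

namespace Cfsg.Lib.Invol

open QuaternionGroup

theorem natCast_half_ne_zero {n : ℕ} [NeZero n] : ((n : ℕ) : ZMod (2 * n)) ≠ 0 := by
  rw [Ne, ZMod.natCast_eq_zero_iff]
  intro h
  have := Nat.le_of_dvd (Nat.pos_of_ne_zero (NeZero.ne n)) h
  have := Nat.pos_of_ne_zero (NeZero.ne n)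
  omega

theorem quaternion_eq_of_orderOf_two {n : ℕ} [NeZero n] {x : QuaternionGroup n}
    (hx : orderOf x = 2) : x = a (n : ZMod (2 * n)) := by
  cases x with
  | a i =>
    have h : (a i : QuaternionGroup n) * a i = 1 := by
      rw [← pow_two, ← hx]; exact pow_orderOf_eq_one _
    rw [a_mul_a, one_def, a.injEq] at h
    have hv : (2 * n) ∣ i.val + i.val := by
      rw [← ZMod.natCast_eq_zero_iff, Nat.cast_add, ZMod.natCast_zmod_val]; exact h
    have hlt := ZMod.val_lt i
    have hne : i.val ≠ 0 := by
      intro h0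
      have : i = 0 := (ZMod.val_eq_zero i).mp h0
      rw [this, a_zero, orderOf_one] at hx
      omega
    have hval : i.val = n := by
      obtain ⟨k, hk⟩ := hv
      have hk2 : k < 2 := by
        by_contra hc
        push Not at hc
        have := Nat.mul_le_mul_left (2 * n) hc
        omega
      interval_cases k <;> omega
    rw [← ZMod.natCast_zmod_val i, hval]
  | xa i => rw [orderOf_xa] at hx; omega

theorem quaternion_orderOf_half {n : ℕ} [NeZero n] :
    orderOf (a (n : ZMod (2 * n)) : QuaternionGroup n) = 2 := by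
  refine orderOf_eq_prime ?_ ?_
  · rw [pow_two, a_mul_a, ← Nat.cast_add, ← two_mul, ZMod.natCast_self, a_zero]
  · intro h
    rw [one_def, a.injEq] at h
    exact natCast_half_ne_zero h

theorem card_involutions_quaternion {n : ℕ} [NeZero n] :
    Nat.card {x : QuaternionGroup n // orderOf x = 2} = 1 := by
  rw [Nat.card_eq_one_iff_unique]
  exact ⟨⟨fun x y => Subtype.ext ((quaternion_eq_of_orderOf_two x.2).trans
    (quaternion_eq_of_orderOf_two y.2).symm)⟩, ⟨⟨_, quaternion_orderOf_half⟩⟩⟩

theorem zpowers_eq_of_cyclic {T : Type*} [Group T] [Finite T] [IsCyclic T] {x y : T}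
    (h : orderOf x = orderOf y) : Subgroup.zpowers x = Subgroup.zpowers y :=
  by
  classical
  have := Fintype.ofFinite T
  have hsub : (Finset.univ.filter fun z : T => z ∈ Subgroup.zpowers y) ⊆
      Finset.univ.filter fun z : T => z ^ orderOf y = 1 := by
    intro z hz
    simp only [Finset.mem_filter, Finset.mem_univ, true_and] at hz ⊢
    obtain ⟨k, rfl⟩ := Subgroup.mem_zpowers_iff.mp hz
    rw [← zpow_natCast, ← zpow_mul, mul_comm, zpow_mul, zpow_natCast, pow_orderOf_eq_one, one_zpow]
  have hcard : (Finset.univ.filter fun z : T => z ∈ Subgroup.zpowers y).card = orderOf y := by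
    rw [← Fintype.card_subtype, ← Nat.card_eq_fintype_card]
    exact Nat.card_zpowers y
  have heq := Finset.eq_of_subset_of_card_le hsub
    (by rw [hcard]; exact IsCyclic.card_pow_eq_one_le (orderOf_pos y))
  have hx : x ∈ Subgroup.zpowers y := by
    have hm : x ∈ Finset.univ.filter fun z : T => z ^ orderOf y = 1 := by
      simp [← h, pow_orderOf_eq_one]
    rw [← heq] at hm
    simpa using hm
  exact Subgroup.eq_of_le_of_card_ge (Subgroup.zpowers_le.mpr hx)
    (by rw [Nat.card_zpowers, Nat.card_zpowers, h])

/-- Cyclic and generalized quaternion `p`-groups have a unique subgroup of order `p`. -/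
theorem zpowers_eq_of_cyclic_or_quaternion {T : Type*} [Group T] [Finite T] {p : ℕ} [hp : Fact p.Prime]
    (hT : IsPGroup p T) (h : IsCyclic T ∨ ∃ n : ℕ, Nonempty (T ≃* QuaternionGroup n)) {x y : T}
    (hx : orderOf x = p) (hy : orderOf y = p) : Subgroup.zpowers x = Subgroup.zpowers y := by
  rcases h with h | ⟨n, ⟨e⟩⟩
  · exact zpowers_eq_of_cyclic (hx.trans hy.symm)
  · have hn : NeZero n := by
      constructor
      rintro rfl
      have : Finite (QuaternionGroup 0) := Finite.of_equiv T e.toEquiv
      have : Finite (ZMod (2 * 0)) :=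
        Finite.of_injective (a : ZMod (2 * 0) → QuaternionGroup 0) fun i j hij => (a.injEq i j).mp hij
      have : Finite ℤ := this
      exact not_finite ℤ
    have h4 : orderOf (xa 0 : QuaternionGroup n) = 4 := orderOf_xa 0
    obtain ⟨k, hk⟩ := hT (e.symm (xa 0))
    have hdvd : 4 ∣ p ^ k := by
      rw [← h4, ← e.symm.orderOf_eq]
      exact orderOf_dvd_of_pow_eq_one hk
    have hp2 : p = 2 := by
      have : 2 ∣ p ^ k := Dvd.dvd.trans (by norm_num) hdvd
      exact ((Nat.prime_dvd_prime_iff_eq Nat.prime_two hp.out).mp (Nat.prime_two.dvd_of_dvd_pow this)).symm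
    have key : ∀ z : T, orderOf z = p → e z = a (n : ZMod (2 * n)) := fun z hz =>
      quaternion_eq_of_orderOf_two (by rw [e.orderOf_eq, hz, hp2])
    rw [e.injective ((key x hx).trans (key y hy).symm)]

end Cfsg.Lib.Invol
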