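import Mathlib.GroupTheory.Sylow

/-!
Small Sylow bookkeeping: moving p-subgroups into a given Sylow subgroup.
-/

set_option autoImplicit false

namespace Cfsg.Lib.Invol

variable {G : Type*} [Group G] [Finite G] {p : ℕ} [Fact p.Prime]

theorem exists_conj_mem_sylow (S : Sylow p G) {K : Subgroup G} (hK : IsPGroup p K) :
    ∃ h : G, ∀ x ∈ K, h * x * h⁻¹ ∈ (S : Subgroup G) := by
  obtain ⟨Q, hQ⟩ := hK.exists_le_sylow
  obtain ⟨h, hh⟩ := MulAction.exists_smul_eq G Q S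
  refine ⟨h, fun x hx => ?_⟩
  have h1 := Subgroup.smul_mem_pointwise_smul x (MulAut.conj h) (Q : Subgroup G) (hQ hx)
  rw [← hh]
  exact h1

/-- Inside `C`, two p-subgroups have conjugates lying in a common p-subgroup. -/
theorem exists_common_pGroup (C : Subgroup G) {K L : Subgroup G} (hKC : K ≤ C) (hLC : L ≤ C)
    (hK : IsPGroup p K) (hL : IsPGroup p L) :
    ∃ c ∈ C, ∃ R : Subgroup G, IsPGroup p R ∧ K ≤ R ∧ ∀ x ∈ L, c * x * c⁻¹ ∈ R := by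
  obtain ⟨Q, hQ⟩ := (hK.of_equiv (Subgroup.subgroupOfEquivOfLe hKC).symm).exists_le_sylow
  obtain ⟨c, hc⟩ := exists_conj_mem_sylow Q (hL.of_equiv (Subgroup.subgroupOfEquivOfLe hLC).symm)
  refine ⟨c, c.2, (Q : Subgroup C).map C.subtype, Q.2.map _, fun x hx => ?_, fun x hx => ?_⟩
  · exact ⟨⟨x, hKC hx⟩, hQ (show (⟨x, hKC hx⟩ : C) ∈ K.subgroupOf C from hx), rfl⟩
  · exact ⟨_, hc ⟨x, hLC hx⟩ (show (⟨x, hLC hx⟩ : C) ∈ L.subgroupOf C from hx), rfl⟩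

end Cfsg.Lib.Invol
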