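import Cfsg.Agent.Lib.Invol.Basic
import Mathlib.GroupTheory.Nilpotent
import Mathlib.GroupTheory.Sylow
import Mathlib.Data.Set.Card
import Mathlib.Data.Set.Finite.Lemmas

/-!
The Baer–Suzuki theorem (argument of Alperin and Lyons).
-/

set_option autoImplicit false

namespace Cfsg.Lib.Invol

variable {G : Type*} [Group G] [Finite G] {p : ℕ} [Fact p.Prime]

/-- The conjugates of `X` contained in `P`. -/
def conjugatesIn (X P : Subgroup G) : Set (Subgroup G) :=
  {Y | Y ≤ P ∧ ∃ g : G, X.map (MulAut.conj g).toMonoidHom = Y}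

theorem map_conj_map_conj (X : Subgroup G) (a b : G) :
    (X.map (MulAut.conj b).toMonoidHom).map (MulAut.conj a).toMonoidHom =
      X.map (MulAut.conj (a * b)).toMonoidHom := by
  rw [Subgroup.map_map]; congr 1; ext x; simp [mul_assoc]

theorem mem_normalizer_of_map_le {W : Subgroup G} {u : G}
    (h : W.map (MulAut.conj u).toMonoidHom ≤ W) : u ∈ Subgroup.normalizer (W : Set G) := by
  have he : W.map (MulAut.conj u).toMonoidHom = W := by
    refine Subgroup.eq_of_le_of_card_ge h (le_of_eq ?_)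
    exact Nat.card_congr (W.equivMapOfInjective (MulAut.conj u).toMonoidHom
      (MulAut.conj u).injective).toEquiv
  rw [Subgroup.mem_normalizer_iff]
  intro x
  conv_rhs => rw [← he]
  exact (Subgroup.mem_map_iff_mem (f := (MulAut.conj u).toMonoidHom) (MulAut.conj u).injective).symm

/-- A member of a conjugacy class of subgroups inside a p-group, outside a given subfamily `E`,
normalising the subgroup generated by `E`. -/
theorem exists_normalizing (X : Subgroup G) (P : Sylow p G) (E : Set (Subgroup G))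
    (hE : E ⊂ conjugatesIn X (P : Subgroup G)) :
    ∃ Y ∈ conjugatesIn X (P : Subgroup G), Y ∉ E ∧ Y ≤ Subgroup.normalizer ((sSup E : Subgroup G) : Set G) := by
  obtain ⟨Y0, hY0, hY0E⟩ := Set.exists_of_ssubset hE
  set W := (sSup E : Subgroup G) with hW
  set N := Subgroup.normalizer (W : Set G) with hN
  by_cases hPN : (P : Subgroup G) ≤ N
  · exact ⟨Y0, hY0, hY0E, hY0.1.trans hPN⟩
  have hnil : Group.IsNilpotent (P : Subgroup G) := P.2.isNilpotent
  have hlt : N.subgroupOf (P : Subgroup G) < ⊤ := by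
    rwa [lt_top_iff_ne_top, Ne, Subgroup.subgroupOf_eq_top]
  obtain ⟨u, hu, huN⟩ := SetLike.exists_of_lt
    (Group.normalizerCondition_of_isNilpotent (G := (P : Subgroup G)) _ hlt)
  rw [Subgroup.mem_subgroupOf] at huN
  rw [Subgroup.mem_normalizer_iff] at hu
  by_contra hcon
  push Not at hcon
  apply huN
  apply mem_normalizer_of_map_le
  rw [hW, Subgroup.map_le_iff_le_comap, sSup_le_iff]
  intro e he
  obtain ⟨heP, g, hg⟩ := hE.subset he
  have hsub : e.map (MulAut.conj (u : G)).toMonoidHom ≤ (P : Subgroup G) := by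
    rintro _ ⟨x, hx, rfl⟩
    simpa using (P : Subgroup G).mul_mem ((P : Subgroup G).mul_mem u.2 (heP hx))
      ((P : Subgroup G).inv_mem u.2)
  have hnorm : e.map (MulAut.conj (u : G)).toMonoidHom ≤ N := by
    rintro _ ⟨x, hx, rfl⟩
    have hxN : x ∈ N := Subgroup.le_normalizer ((le_sSup he : e ≤ W) hx)
    have := (hu ⟨x, heP hx⟩).mp (by rw [Subgroup.mem_subgroupOf]; exact hxN)
    rw [Subgroup.mem_subgroupOf] at this
    simpa using this
  have hmem : e.map (MulAut.conj (u : G)).toMonoidHom ∈ E := by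
    by_contra hne
    exact hcon _ ⟨hsub, u * g, by rw [← map_conj_map_conj, hg]⟩ hne hnorm
  intro x hx
  exact (le_sSup hmem : e.map (MulAut.conj (u : G)).toMonoidHom ≤ W) ⟨x, hx, rfl⟩

theorem card_conjugatesIn (X : Subgroup G) (P Q : Sylow p G) :
    Nat.card (conjugatesIn X (P : Subgroup G)) = Nat.card (conjugatesIn X (Q : Subgroup G)) := by
  have key : ∀ P Q : Sylow p G,
      Nat.card (conjugatesIn X (P : Subgroup G)) ≤ Nat.card (conjugatesIn X (Q : Subgroup G)) := by
    intro P Q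
    obtain ⟨h, rfl⟩ := MulAction.exists_smul_eq G P Q
    refine Nat.card_le_card_of_injective (fun Y => ⟨Y.1.map (MulAut.conj h).toMonoidHom, ?_, ?_⟩) ?_
    · rintro _ ⟨x, hx, rfl⟩
      exact Subgroup.smul_mem_pointwise_smul x (MulAut.conj h) (P : Subgroup G) (Y.2.1 hx)
    · obtain ⟨g, hg⟩ := Y.2.2
      exact ⟨h * g, by rw [← map_conj_map_conj, hg]⟩
    · intro a b hab
      exact Subtype.ext (Subgroup.map_injective (MulAut.conj h).injective (congrArg Subtype.val hab))
  exact le_antisymm (key P Q) (key Q P)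

/-- Baer–Suzuki. -/
theorem baerSuzuki (X : Subgroup G) (hX : IsPGroup p X)
    (h : ∀ g : G, IsPGroup p ↥(X ⊔ X.map (MulAut.conj g).toMonoidHom)) :
    ∃ N : Subgroup G, N.Normal ∧ IsPGroup p N ∧ X ≤ N := by
  classical
  have hpair : ∀ a b : G,
      IsPGroup p ↥(X.map (MulAut.conj a).toMonoidHom ⊔ X.map (MulAut.conj b).toMonoidHom) := by
    intro a b
    have := (h (a⁻¹ * b)).map (MulAut.conj a).toMonoidHom
    rwa [Subgroup.map_sup, map_conj_map_conj, mul_inv_cancel_left] at this
  have hconj : ∀ a : G, IsPGroup p (X.map (MulAut.conj a).toMonoidHom) := fun a => hX.map _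
  by_cases hall : ∀ P Q : Sylow p G, conjugatesIn X (P : Subgroup G) = conjugatesIn X (Q : Subgroup G)
  · obtain ⟨P0, hP0⟩ := hX.exists_le_sylow
    refine ⟨sSup (Set.range fun g : G => X.map (MulAut.conj g).toMonoidHom), ⟨?_⟩, ?_, ?_⟩
    · intro n hn g
      have hle : (sSup (Set.range fun g : G => X.map (MulAut.conj g).toMonoidHom)).map
          (MulAut.conj g).toMonoidHom ≤ sSup (Set.range fun g : G => X.map (MulAut.conj g).toMonoidHom) := by
        rw [Subgroup.map_le_iff_le_comap, sSup_le_iff]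
        rintro _ ⟨a, rfl⟩
        refine Subgroup.map_le_iff_le_comap.mp ?_
        rw [map_conj_map_conj]
        exact le_sSup ⟨g * a, rfl⟩
      simpa using hle ⟨n, hn, rfl⟩
    · refine P0.2.to_le (sSup_le ?_)
      rintro _ ⟨a, rfl⟩
      obtain ⟨Q, hQ⟩ := (hconj a).exists_le_sylow
      have : X.map (MulAut.conj a).toMonoidHom ∈ conjugatesIn X (Q : Subgroup G) := ⟨hQ, a, rfl⟩
      rw [hall Q P0] at this
      exact this.1
    · exact le_sSup ⟨1, by ext x; simp⟩
  exfalso
  push Not at hall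
  obtain ⟨P1, Q1, hne1⟩ := hall
  -- two Sylow subgroups with distinct families meeting in as many conjugates as possible
  obtain ⟨⟨P, Q⟩, hPQ, hmax⟩ := Set.exists_max_image
    {q : Sylow p G × Sylow p G | conjugatesIn X (q.1 : Subgroup G) ≠ conjugatesIn X (q.2 : Subgroup G)}
    (fun q => Nat.card ↥(conjugatesIn X (q.1 : Subgroup G) ∩ conjugatesIn X (q.2 : Subgroup G)))
    (Set.toFinite _) ⟨(P1, Q1), hne1⟩
  simp only [Set.mem_setOf_eq] at hPQ hmax
  set E := conjugatesIn X (P : Subgroup G) ∩ conjugatesIn X (Q : Subgroup G) with hEdef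
  have hssub : ∀ A B : Sylow p G, conjugatesIn X (A : Subgroup G) ≠ conjugatesIn X (B : Subgroup G) →
      conjugatesIn X (A : Subgroup G) ∩ conjugatesIn X (B : Subgroup G) ⊂ conjugatesIn X (A : Subgroup G) := by
    intro A B hAB
    refine Set.inter_subset_left.ssubset_of_ne (fun he => hAB ?_)
    refine Set.eq_of_subset_of_ncard_le (Set.inter_eq_left.mp he) ?_ (Set.toFinite _)
    rw [← Nat.card_coe_set_eq, ← Nat.card_coe_set_eq, card_conjugatesIn X A B]
  have hEP : E ⊂ conjugatesIn X (P : Subgroup G) := hssub P Q hPQ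
  have hEQ : E ⊂ conjugatesIn X (Q : Subgroup G) := by
    rw [hEdef, Set.inter_comm]; exact hssub Q P (Ne.symm hPQ)
  obtain ⟨Y, hY, hYE, hYN⟩ := exists_normalizing X P E hEP
  obtain ⟨Z, hZ, hZE, hZN⟩ := exists_normalizing X Q E hEQ
  obtain ⟨a, ha⟩ := hY.2
  obtain ⟨b, hb⟩ := hZ.2
  have hYZ : IsPGroup p ↥(Y ⊔ Z) := by rw [← ha, ← hb]; exact hpair a b
  have hW : IsPGroup p ↥(sSup E : Subgroup G) := P.2.to_le (sSup_le fun e he => he.1.1)
  have hsup : IsPGroup p ↥((Y ⊔ Z) ⊔ sSup E : Subgroup G) :=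
    IsPGroup.to_sup_of_normal_right' hYZ hW (sup_le hYN hZN)
  obtain ⟨R, hR⟩ := hsup.exists_le_sylow
  have key : ∀ (A : Sylow p G) (V : Subgroup G), E ⊆ conjugatesIn X (A : Subgroup G) →
      V ∈ conjugatesIn X (A : Subgroup G) → V ∉ E → V ≤ (R : Subgroup G) →
      conjugatesIn X (A : Subgroup G) = conjugatesIn X (R : Subgroup G) := by
    intro A V hEA hV hVE hVR
    by_contra hne
    have h1 := hmax (A, R) hne
    simp only at h1
    have h2 : E ⊂ conjugatesIn X (A : Subgroup G) ∩ conjugatesIn X (R : Subgroup G) := by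
      have hsub : E ⊆ conjugatesIn X (A : Subgroup G) ∩ conjugatesIn X (R : Subgroup G) := fun e he =>
        ⟨hEA he, (le_sSup he).trans (le_sup_right.trans hR), (hEA he).2⟩
      exact (Set.ssubset_iff_of_subset hsub).mpr ⟨V, ⟨hV, hVR, hV.2⟩, hVE⟩
    have h3 := Set.ncard_lt_ncard h2 (Set.toFinite _)
    rw [← Nat.card_coe_set_eq, ← Nat.card_coe_set_eq] at h3
    omega
  exact hPQ ((key P Y hEP.subset hY hYE ((le_sup_left.trans le_sup_left).trans hR)).trans
    (key Q Z hEQ.subset hZ hZE ((le_sup_right.trans le_sup_left).trans hR)).symm)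

/-- An involution outside every normal 2-subgroup inverts a nontrivial element of odd order. -/
theorem exists_inverted_odd {t : G} (ht : orderOf t = 2)
    (hO : ∀ N : Subgroup G, N.Normal → IsPGroup 2 N → t ∉ N) :
    ∃ h : G, h ≠ 1 ∧ Odd (orderOf h) ∧ t * h * t⁻¹ = h⁻¹ := by
  have : Fact (Nat.Prime 2) := ⟨Nat.prime_two⟩
  by_contra hcon
  push Not at hcon
  have hX : IsPGroup 2 (Subgroup.zpowers t) :=
    IsPGroup.of_card (n := 1) (by rw [Nat.card_zpowers, ht, pow_one])
  suffices hpg : ∀ g : G,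
      IsPGroup 2 ↥(Subgroup.zpowers t ⊔ (Subgroup.zpowers t).map (MulAut.conj g).toMonoidHom) by
    obtain ⟨N, hN, hN2, hXN⟩ := baerSuzuki (Subgroup.zpowers t) hX hpg
    exact hO N hN hN2 (hXN (Subgroup.mem_zpowers t))
  intro g
  set u := g * t * g⁻¹ with hu_def
  have hu : orderOf u = 2 := by rw [hu_def, orderOf_conj_eq, ht]
  obtain ⟨k, m, hm, hr⟩ := Nat.exists_eq_two_pow_mul_odd (n := orderOf (t * u)) (orderOf_pos _).ne'
  have hm1 : m = 1 := by
    by_contra hm1
    have ho : orderOf ((t * u) ^ 2 ^ k) = m := by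
      rw [orderOf_pow, hr, Nat.gcd_mul_right_left, Nat.mul_div_cancel_left _ (by positivity)]
    refine hcon _ (fun h => hm1 ?_) (by rw [ho]; exact hm) ?_
    · rw [← ho, h, orderOf_one]
    · rw [← conj_pow, conj_mul_left ht hu, inv_pow]
  have hclos : IsPGroup 2 (Subgroup.closure ({t, u} : Set G)) := by
    intro x
    refine ⟨k + 1, Subtype.ext ?_⟩
    rw [SubmonoidClass.coe_pow, Subgroup.coe_one]
    obtain ⟨j, hj | hj⟩ := (mem_closure_pair ht hu).mp x.2
    · have h1 : (t * u) ^ (2 ^ (k + 1)) = 1 := by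
        apply orderOf_dvd_iff_pow_eq_one.mp
        rw [hr, hm1, mul_one]; exact pow_dvd_pow 2 (Nat.le_succ k)
      rw [hj, ← zpow_natCast, ← zpow_mul, mul_comm, zpow_mul, zpow_natCast, h1, one_zpow]
    · rw [hj, pow_succ', pow_mul, pow_two, mul_zpow_sq (inv_mul_self ht) (conj_mul_left ht hu) j,
        one_pow]
  refine hclos.to_le (sup_le ?_ ?_)
  · rw [Subgroup.zpowers_le]; exact Subgroup.subset_closure (by simp)
  · rw [MonoidHom.map_zpowers, Subgroup.zpowers_le]
    exact Subgroup.subset_closure (by simp [hu_def])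

end Cfsg.Lib.Invol
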