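import Cfsg.Agent.Lib.Invol.Embedded
import Cfsg.Agent.Lib.Coprime.Conjugacy
import Mathlib.GroupTheory.FixedPointFree

/-!
Groups in which every involution has an elementary abelian 2-group as centralizer, with a Sylow
2-subgroup neither cyclic nor normal.
-/

set_option autoImplicit false
set_option linter.style.haveILetI false

namespace Cfsg.Lib.Invol.EA

open Subgroup Cfsg

variable {G : Type*} [Group G] [Finite G]

/-- The hypotheses. -/
structure Hyp (T : Sylow 2 G) : Prop where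
  notCyclic : ¬ IsCyclic (T : Subgroup G)
  notNormal : ¬ (T : Subgroup G).Normal
  cent : ∀ t : G, orderOf t = 2 → IsMulCommutative (centralizer ({t} : Set G)) ∧
    ∀ c ∈ centralizer ({t} : Set G), c ^ 2 = 1

variable {T : Sylow 2 G}

/-- The Sylow normalizer. -/
abbrev HH (T : Sylow 2 G) : Subgroup G := normalizer ((T : Subgroup G) : Set G)

/-- The two-point stabilizer of `H` and `vH`. -/
abbrev DD (T : Sylow 2 G) (v : G) : Subgroup G := HH T ⊓ (HH T).map (MulAut.conj v).toMonoidHom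

variable (h : Hyp T)
include h

theorem elementary : IsMulCommutative (T : Subgroup G) ∧ ∀ x ∈ (T : Subgroup G), x * x = 1 := by
  haveI : Fact (Nat.Prime 2) := ⟨Nat.prime_two⟩
  haveI : Nontrivial (T : Subgroup G) := by
    by_contra hne
    rw [not_nontrivial_iff_subsingleton] at hne
    exact h.notCyclic inferInstance
  haveI := T.isPGroup'.center_nontrivial
  obtain ⟨k, hk0, hk⟩ := (T.isPGroup'.to_subgroup (center (T : Subgroup G))).nontrivial_iff_card.mp inferInstance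
  obtain ⟨z, hz⟩ := exists_prime_orderOf_dvd_card' (G := center (T : Subgroup G)) 2
    (by rw [hk]; exact dvd_pow_self 2 hk0.ne')
  have hzo : orderOf ((z : (T : Subgroup G)) : G) = 2 := by
    rw [orderOf_coe, orderOf_coe, hz]
  obtain ⟨hc, hsq⟩ := h.cent _ hzo
  have hle : (T : Subgroup G) ≤ centralizer ({((z : (T : Subgroup G)) : G)} : Set G) := fun x hx =>
    mem_centralizer_singleton_iff.mpr (congrArg Subtype.val (mem_center_iff.mp z.2 ⟨x, hx⟩))
  exact ⟨⟨⟨fun a b => Subtype.ext (congrArg Subtype.val (hc.is_comm.comm ⟨_, hle a.2⟩ ⟨_, hle b.2⟩) :)⟩⟩,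
    fun x hx => by rw [← pow_two]; exact hsq x (hle hx)⟩

theorem centralizer_eq {t : G} (ht : t ∈ (T : Subgroup G)) (ht1 : t ≠ 1) :
    centralizer ({t} : Set G) = T := by
  haveI : Fact (Nat.Prime 2) := ⟨Nat.prime_two⟩
  have hto : orderOf t = 2 := orderOf_eq_two_of ht1 ((elementary h).2 t ht)
  obtain ⟨hc, hsq⟩ := h.cent t hto
  refine T.is_maximal' (fun x => ⟨1, Subtype.ext (by
    simpa using hsq x.1 x.2)⟩) fun x hx => mem_centralizer_singleton_iff.mpr ?_
  exact congrArg Subtype.val ((elementary h).1.is_comm.comm ⟨x, hx⟩ ⟨t, ht⟩)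

theorem mem_of_involution {t : G} (ht : orderOf t = 2) (hH : t ∈ HH T) : t ∈ (T : Subgroup G) := by
  haveI : Fact (Nat.Prime 2) := ⟨Nat.prime_two⟩
  have hp : IsPGroup 2 (zpowers t) := IsPGroup.of_card (n := 1) (by rw [Nat.card_zpowers, ht, pow_one])
  have h1 := T.is_maximal' (hp.to_sup_of_normal_right' T.isPGroup' (zpowers_le.mpr hH)) le_sup_right
  rw [← h1]
  exact mem_sup_left (mem_zpowers t)

theorem se : IsStronglyEmbedded (HH T) := by
  haveI : Fact (Nat.Prime 2) := ⟨Nat.prime_two⟩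
  have hne : HH T ≠ ⊤ := fun e => h.notNormal (normalizer_eq_top_iff.mp e)
  obtain ⟨t, ht, ht2⟩ : ∃ t ∈ (T : Subgroup G), orderOf t = 2 := by
    haveI : Nontrivial (T : Subgroup G) := by
      by_contra hne
      rw [not_nontrivial_iff_subsingleton] at hne
      exact h.notCyclic inferInstance
    obtain ⟨t, ht⟩ := exists_ne (1 : (T : Subgroup G))
    exact ⟨t, t.2, orderOf_eq_two_of (fun e => ht (Subtype.ext e)) ((elementary h).2 _ t.2)⟩
  have heven : Even (Nat.card (HH T)) :=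
    even_iff_two_dvd.mpr (ht2 ▸ orderOf_dvd_natCard _ (le_normalizer ht))
  refine (stronglyEmbedded_iff hne heven).mpr fun s hs hs2 g hg => ?_
  have hsT := mem_of_involution h hs2 hs
  have hgT := mem_of_involution h (by rw [orderOf_conj_eq, hs2]) hg
  refine mem_normalizer_fintype fun x hx => ?_
  have e1 := centralizer_eq h hgT (ne_one (by rw [orderOf_conj_eq, hs2]))
  show g * x * g⁻¹ ∈ (T : Subgroup G)
  rw [← e1, mem_centralizer_singleton_iff, conj_mul, conj_mul]
  rw [show x * s = s * x from congrArg Subtype.val ((elementary h).1.is_comm.comm ⟨x, hx⟩ ⟨s, hsT⟩)]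

theorem two_lt : 2 < Nat.card T := by
  haveI : Fact (Nat.Prime 2) := ⟨Nat.prime_two⟩
  by_contra hle
  push Not at hle
  refine h.notCyclic ?_
  rcases Nat.le_iff_lt_or_eq.mp hle with hlt | he
  · haveI : Subsingleton (T : Subgroup G) := Finite.card_le_one_iff_subsingleton.mp (by omega)
    infer_instance
  · exact isCyclic_of_prime_card he

theorem card_invol : Nat.card {t : G // orderOf t = 2 ∧ t ∈ HH T} = Nat.card T - 1 := by
  classical
  let e : {t : G // orderOf t = 2 ∧ t ∈ HH T} ≃ {x : (T : Subgroup G) // x ≠ 1} :=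
    { toFun := fun t => ⟨⟨t.1, mem_of_involution h t.2.1 t.2.2⟩, fun e =>
        ne_one t.2.1 (congrArg Subtype.val e)⟩
      invFun := fun x => ⟨x.1.1, orderOf_eq_two_of (fun e => x.2 (Subtype.ext e)) ((elementary h).2 _ x.1.2),
        le_normalizer x.1.2⟩
      left_inv := fun t => rfl
      right_inv := fun x => rfl }
  haveI := Fintype.ofFinite (T : Subgroup G)
  rw [Nat.card_congr e, Nat.card_eq_fintype_card, Fintype.card_subtype_compl, Fintype.card_subtype_eq,
    Nat.card_eq_fintype_card]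

theorem card_H : Nat.card (HH T) = Nat.card T * (Nat.card T - 1) := by
  classical
  obtain ⟨t, ht, ht2⟩ := exists_involution_of_even (se h).2.1
  have htT := mem_of_involution h ht2 ht
  let f : HH T → {s : G // orderOf s = 2 ∧ s ∈ HH T} := fun g => ⟨(g : G) * t * (g : G)⁻¹,
    by rw [orderOf_conj_eq, ht2], mul_mem (mul_mem g.2 ht) (inv_mem g.2)⟩
  haveI := Fintype.ofFinite (HH T)
  haveI := Fintype.ofFinite {s : G // orderOf s = 2 ∧ s ∈ HH T}
  rw [Nat.card_eq_fintype_card, Fintype.card_congr (Equiv.sigmaFiberEquiv f).symm, Fintype.card_sigma,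
    Finset.sum_congr rfl (g := fun _ => Nat.card T), Finset.sum_const, Finset.card_univ,
    ← Nat.card_eq_fintype_card, card_invol h, smul_eq_mul, mul_comm]
  intro s _
  obtain ⟨g₀, hg₀⟩ := isConj_iff.mp (se_isConj (se h) ht2 s.2.1)
  have hg₀H : g₀ ∈ HH T := se_mem (se h) ht ht2 (by rw [hg₀]; exact s.2.2)
  rw [← Nat.card_eq_fintype_card]
  refine (Nat.card_eq_of_bijective (fun x : (T : Subgroup G) =>
    (⟨⟨g₀ * x, mul_mem hg₀H (le_normalizer x.2)⟩, Subtype.ext (by
      show g₀ * (x : G) * t * (g₀ * (x : G))⁻¹ = s.1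
      have hx : (x : G) * t = t * x := congrArg Subtype.val ((elementary h).1.is_comm.comm x ⟨t, htT⟩)
      rw [show g₀ * (x : G) * t * (g₀ * (x : G))⁻¹ = g₀ * ((x : G) * t * (x : G)⁻¹) * g₀⁻¹ by group, hx,
        mul_inv_cancel_right, hg₀])⟩ : {g : HH T // f g = s})) ⟨?_, ?_⟩).symm
  · intro x y hxy
    exact Subtype.ext (mul_left_cancel (congrArg (fun z => (z.1 : G)) hxy :))
  · rintro ⟨g, hg⟩
    have hg' : (g : G) * t * (g : G)⁻¹ = g₀ * t * g₀⁻¹ := by rw [hg₀]; exact congrArg Subtype.val hg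
    have hmem : g₀⁻¹ * (g : G) ∈ (T : Subgroup G) := by
      rw [← centralizer_eq h htT (ne_one ht2), mem_centralizer_singleton_iff]
      calc g₀⁻¹ * (g : G) * t = g₀⁻¹ * ((g : G) * t * (g : G)⁻¹) * g := by group
        _ = t * (g₀⁻¹ * (g : G)) := by rw [hg']; group
    exact ⟨⟨_, hmem⟩, Subtype.ext (Subtype.ext (mul_inv_cancel_left g₀ (g : G)))⟩

theorem odd_DD {v : G} (hv : v ∉ HH T) : Odd (Nat.card (DD T v)) := (se h).2.2 v hv

theorem eq_one_of_mem {v : G} (hv : v ∉ HH T) {x : G} (hx : x ∈ (T : Subgroup G)) (hxD : x ∈ DD T v) :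
    x = 1 := by
  have h1 := (odd_DD h hv).of_dvd_nat (orderOf_dvd_natCard _ hxD)
  have h2 : orderOf x ∣ 2 := orderOf_dvd_of_pow_eq_one (by rw [pow_two]; exact (elementary h).2 x hx)
  exact orderOf_eq_one_iff.mp (Nat.eq_one_of_dvd_coprimes h1.coprime_two_right dvd_rfl h2)

omit h in
theorem conj_mem_DD {v : G} (hv2 : orderOf v = 2) {d : G} (hd : d ∈ DD T v) :
    v * d * v⁻¹ ∈ DD T v := by
  refine ⟨?_, ⟨d, hd.1, rfl⟩⟩
  have := mem_conjMap.mp hd.2
  rwa [inv_eq_self hv2] at this ⊢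

theorem inverts {v : G} (hv2 : orderOf v = 2) (hv : v ∉ HH T) {d : G} (hd : d ∈ DD T v) :
    v * d * v⁻¹ = d⁻¹ := by
  let φ : DD T v →* DD T v :=
    { toFun := fun x => ⟨v * x.1 * v⁻¹, conj_mem_DD hv2 x.2⟩
      map_one' := Subtype.ext (by simp)
      map_mul' := fun x y => Subtype.ext (by simp [mul_assoc]) }
  have h2 : Function.Involutive φ := fun x => Subtype.ext (by
    show v * (v * x.1 * v⁻¹) * v⁻¹ = x.1
    rw [show v * (v * x.1 * v⁻¹) * v⁻¹ = (v * v) * x.1 * (v * v)⁻¹ by group, inv_mul_self hv2, one_mul,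
      inv_one, mul_one])
  have hfix : MonoidHom.FixedPointFree φ := by
    intro x hx
    have hx' : v * x.1 * v⁻¹ = x.1 := congrArg Subtype.val hx
    obtain ⟨-, hsq⟩ := h.cent v hv2
    have h1 : x.1 ∈ centralizer ({v} : Set G) :=
      mem_centralizer_singleton_iff.mpr (mul_inv_eq_iff_eq_mul.mp hx').symm
    have ho := (odd_DD h hv).of_dvd_nat (orderOf_dvd_natCard _ x.2)
    exact Subtype.ext (orderOf_eq_one_iff.mp (Nat.eq_one_of_dvd_coprimes ho.coprime_two_right dvd_rfl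
      (orderOf_dvd_of_pow_eq_one (hsq _ h1))))
  exact congrArg Subtype.val (congrFun (hfix.coe_eq_inv_of_involutive h2) ⟨d, hd⟩)

theorem card_DD {v : G} (hv2 : orderOf v = 2) (hv : v ∉ HH T) :
    Nat.card (DD T v) = Nat.card T - 1 := by
  classical
  refine le_antisymm ?_ ?_
  · have h1 : Nat.card (DD T v) ∣ Nat.card T * (Nat.card T - 1) :=
      card_H h ▸ card_dvd_of_le inf_le_left
    haveI : Fact (Nat.Prime 2) := ⟨Nat.prime_two⟩
    obtain ⟨k, hk⟩ := T.isPGroup'.exists_card_eq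
    have hcop : (Nat.card (DD T v)).Coprime (Nat.card T) := by
      rw [hk]; exact (odd_DD h hv).coprime_two_right.pow_right k
    exact Nat.le_of_dvd (by have := two_lt h; omega) (hcop.dvd_of_dvd_mul_left h1)
  · rw [← card_invol h]
    set x : G ⧸ HH T := QuotientGroup.mk 1
    set y : G ⧸ HH T := QuotientGroup.mk v
    have hxy : x ≠ y := fun e => hv (by simpa using QuotientGroup.eq.mp e)
    rw [← (se_swap (se h) hxy).1]
    have hvH : ∀ i : SwapSet (HH T) x y, v⁻¹ * i.1 ∈ HH T := fun i => by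
      have := i.2.2
      rw [MulAction.Quotient.smul_mk, smul_eq_mul, mul_one, QuotientGroup.eq] at this
      simpa using inv_mem this
    refine Nat.card_le_card_of_injective (fun i : SwapSet (HH T) x y => (⟨i.1 * v, ?_, ?_⟩ : DD T v))
      fun i j e => Subtype.ext (mul_right_cancel (congrArg Subtype.val e :))
    · have := inv_mem (hvH i)
      rwa [mul_inv_rev, inv_inv, inv_eq_self i.2.1] at this
    · refine mem_conjMap.mpr ?_
      rw [show v⁻¹ * (i.1 * v) * v = v⁻¹ * i.1 * (v * v) by group, inv_mul_self hv2, mul_one]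
      exact hvH i

theorem exists_one_lt {v : G} (hv2 : orderOf v = 2) (hv : v ∉ HH T) : ∃ d ∈ DD T v, d ≠ 1 := by
  by_contra hc
  push Not at hc
  have h1 : DD T v = ⊥ := (eq_bot_iff_forall _).mpr hc
  have h2 := card_DD h hv2 hv
  rw [h1, card_bot] at h2
  have := two_lt h
  omega

theorem eq_one_of_commute {v : G} (hv : v ∉ HH T) {t d : G} (ht : t ∈ (T : Subgroup G))
    (hd : d ∈ DD T v) (hd1 : d ≠ 1) (hc : Commute d t) : t = 1 := by
  by_contra ht1
  have : d ∈ (T : Subgroup G) := centralizer_eq h ht ht1 ▸ mem_centralizer_singleton_iff.mpr hc.eq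
  exact hd1 (eq_one_of_mem h hv this hd)

theorem complement {v : G} (hv2 : orderOf v = 2) (hv : v ∉ HH T) :
    IsComplement' ((DD T v).subgroupOf (HH T)) ((T : Subgroup G).subgroupOf (HH T)) := by
  haveI : Fact (Nat.Prime 2) := ⟨Nat.prime_two⟩
  have h1 : Nat.card ((DD T v).subgroupOf (HH T)) = Nat.card T - 1 := by
    rw [Nat.card_congr (subgroupOfEquivOfLe inf_le_left).toEquiv, card_DD h hv2 hv]
  have h2 : Nat.card ((T : Subgroup G).subgroupOf (HH T)) = Nat.card T :=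
    Nat.card_congr (subgroupOfEquivOfLe le_normalizer).toEquiv
  refine isComplement'_of_coprime (by rw [h1, h2, mul_comm, card_H h]) ?_
  obtain ⟨k, hk⟩ := T.isPGroup'.exists_card_eq
  rw [Nat.card_congr (subgroupOfEquivOfLe inf_le_left).toEquiv, h2, hk]
  exact (odd_DD h hv).coprime_two_right.pow_right k

theorem decomp {v : G} (hv2 : orderOf v = 2) (hv : v ∉ HH T) {g : G} (hg : g ∈ HH T) :
    ∃ d ∈ DD T v, ∃ t ∈ (T : Subgroup G), g = d * t := by
  obtain ⟨⟨⟨d, hd⟩, ⟨t, ht⟩⟩, he⟩ := (complement h hv2 hv).2 ⟨g, hg⟩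
  exact ⟨d, mem_subgroupOf.mp hd, t, mem_subgroupOf.mp ht, congrArg Subtype.val he.symm⟩

theorem normalizer_inf {v : G} (hv2 : orderOf v = 2) (hv : v ∉ HH T) {g : G} (hg : g ∈ HH T)
    (hgN : g ∈ normalizer (DD T v : Set G)) : g ∈ DD T v := by
  obtain ⟨d, hd, t, ht, rfl⟩ := decomp h hv2 hv hg
  suffices t = 1 by rw [this, mul_one]; exact hd
  have htN : t ∈ normalizer (DD T v : Set G) := (mul_mem_cancel_left (le_normalizer hd)).mp hgN
  obtain ⟨e, he, he1⟩ := exists_one_lt h hv2 hv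
  refine eq_one_of_commute h hv ht he he1 ?_
  have hm : e * t * e⁻¹ * t⁻¹ = 1 := by
    refine eq_one_of_mem h hv ?_ ?_
    · exact mul_mem ((mem_normalizer_iff.mp he.1 t).mp ht) (inv_mem ht)
    · rw [show e * t * e⁻¹ * t⁻¹ = e * (t * e⁻¹ * t⁻¹) by group]
      exact mul_mem he ((mem_normalizer_iff.mp htN _).mp (inv_mem he))
  exact (mul_inv_eq_iff_eq_mul.mp (mul_inv_eq_one.mp hm))

theorem exists_swap {g : G} (hg : g ∉ HH T) :
    ∃ v, orderOf v = 2 ∧ v ∉ HH T ∧ v⁻¹ * g ∈ HH T := by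
  set x : G ⧸ HH T := QuotientGroup.mk 1
  set y : G ⧸ HH T := QuotientGroup.mk g
  have hxy : x ≠ y := fun e => hg (by simpa using QuotientGroup.eq.mp e)
  have hpos : 0 < Nat.card (SwapSet (HH T) x y) := by
    rw [(se_swap (se h) hxy).1, card_invol h]; have := two_lt h; omega
  obtain ⟨⟨v, hv, hvy⟩⟩ := (Nat.card_pos_iff.mp hpos).1
  rw [MulAction.Quotient.smul_mk, smul_eq_mul, mul_one, QuotientGroup.eq] at hvy
  exact ⟨v, hv, fun hvH => hg (by simpa using mul_mem hvH hvy), hvy⟩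

theorem fixed_swap {u g : G} (hu2 : orderOf u = 2) (hu : u ∉ HH T) (hg : g ∉ HH T)
    (hfix : ∀ d ∈ DD T u, g⁻¹ * d * g ∈ HH T) :
    ∃ v, orderOf v = 2 ∧ v ∉ HH T ∧ v⁻¹ * g ∈ HH T ∧ ∀ d ∈ DD T u, v * d * v⁻¹ = d⁻¹ := by
  obtain ⟨v, hv2, hv, hvg⟩ := exists_swap h hg
  refine ⟨v, hv2, hv, hvg, fun d hd => inverts h hv2 hv ?_⟩
  refine ⟨hd.1, mem_conjMap.mpr ?_⟩
  have := mul_mem (mul_mem hvg (hfix d hd)) (inv_mem hvg)
  simpa [mul_assoc] using this

/-- The only cosets fixed by a two-point stabilizer are its two points. -/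
theorem fixed {u g : G} (hu2 : orderOf u = 2) (hu : u ∉ HH T)
    (hfix : ∀ d ∈ DD T u, g⁻¹ * d * g ∈ HH T) : g ∈ HH T ∨ u⁻¹ * g ∈ HH T := by
  by_cases hg : g ∈ HH T
  · exact Or.inl hg
  right
  obtain ⟨v, hv2, hv, hvg, hvD⟩ := fixed_swap h hu2 hu hg hfix
  set c := u * v with hc
  have hcD : ∀ d ∈ DD T u, c * d * c⁻¹ = d := fun d hd => by
    rw [hc, show u * v * d * (u * v)⁻¹ = u * (v * d * v⁻¹) * u⁻¹ by group, hvD d hd,
      show u * d⁻¹ * u⁻¹ = (u * d * u⁻¹)⁻¹ by group, inverts h hu2 hu hd, inv_inv]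
  have hcN : c ∈ normalizer (DD T u : Set G) :=
    mem_normalizer_fintype fun d hd => by rwa [hcD d hd]
  have hcH : c ∈ HH T := by
    by_contra hcH
    obtain ⟨w, hw2, hw, hwc, hwD⟩ := fixed_swap h hu2 hu hcH fun d hd => by
      have e : c⁻¹ * d * c = d := by
        calc c⁻¹ * d * c = c⁻¹ * (c * d * c⁻¹) * c := by rw [hcD d hd]
          _ = d := by group
      rw [e]; exact hd.1
    have hwN : w ∈ normalizer (DD T u : Set G) :=
      mem_normalizer_fintype fun d hd => by rw [hwD d hd]; exact inv_mem hd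
    have hm := normalizer_inf h hu2 hu hwc (mul_mem (inv_mem hwN) hcN)
    obtain ⟨e, he, he1⟩ := exists_one_lt h hu2 hu
    have hee : e = e⁻¹ := by
      have h1 := inverts h hu2 hu hm
      have hcomm : (w⁻¹ * c) * e * (w⁻¹ * c)⁻¹ = e := by
        have ha : u * (w⁻¹ * c * e) * u⁻¹ = (w⁻¹ * c * e)⁻¹ := inverts h hu2 hu (mul_mem hm he)
        rw [← conj_mul, h1, inverts h hu2 hu he, mul_inv_rev (w⁻¹ * c), ← mul_inv_rev, ← mul_inv_rev,
          inv_inj] at ha
        rw [← ha, mul_inv_cancel_right]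
      have h2 : w⁻¹ * c * e * (w⁻¹ * c)⁻¹ = e⁻¹ := by
        rw [show w⁻¹ * c * e * (w⁻¹ * c)⁻¹ = w⁻¹ * (c * e * c⁻¹) * w⁻¹⁻¹ by group, hcD e he,
          inv_eq_self hw2]
        exact hwD e he
      exact hcomm.symm.trans h2
    have h3 : orderOf e ∣ 2 := orderOf_dvd_of_pow_eq_one (by rw [pow_two]; exact eq_inv_iff_mul_eq_one.mp hee)
    exact he1 (orderOf_eq_one_iff.mp (Nat.eq_one_of_dvd_coprimes
      ((odd_DD h hu).of_dvd_nat (orderOf_dvd_natCard _ he)).coprime_two_right dvd_rfl h3))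
  have hm := normalizer_inf h hu2 hu hcH hcN
  have h1 : u * c * u⁻¹ ∈ HH T := (conj_mem_DD hu2 hm).1
  rw [hc, show u * (u * v) * u⁻¹ = u * u * v * u⁻¹ by group, inv_mul_self hu2, one_mul] at h1
  rw [inv_eq_self hu2, show u * g = (v * u⁻¹)⁻¹ * (v * v) * (v⁻¹ * g) by group, inv_mul_self hv2, mul_one]
  exact mul_mem (inv_mem h1) hvg

/-- `T` is transitive on the cosets other than `H`. -/
theorem exists_translate {u g : G} (hu2 : orderOf u = 2) (hu : u ∉ HH T) (hg : g ∉ HH T) :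
    ∃ t ∈ (T : Subgroup G), (t * u)⁻¹ * g ∈ HH T := by
  haveI : Fact (Nat.Prime 2) := ⟨Nat.prime_two⟩
  obtain ⟨v, hv2, hv, hvg⟩ := exists_swap h hg
  obtain ⟨k, hk⟩ := T.isPGroup'.exists_card_eq
  have hcop : (Nat.card (DD T u)).Coprime (Nat.card T) := by
    rw [hk]; exact (odd_DD h hu).coprime_two_right.pow_right k
  obtain ⟨t, ht, hte⟩ := Cfsg.Lib.Coprime.exists_conj_of_coprime (T : Subgroup G) (DD T u) (DD T v)
    inf_le_left hcop (Or.inr (Group.isSolvable_of_comm fun a b => (elementary h).1.is_comm.comm a b))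
    (fun d hd => by
      obtain ⟨a, ha, b, hb, rfl⟩ := decomp h hu2 hu hd.1
      exact mul_mem (mem_sup_right ha) (mem_sup_left hb))
    (by rw [card_DD h hv2 hv, card_DD h hu2 hu])
  refine ⟨t, ht, ?_⟩
  have hfix : ∀ d ∈ DD T u, (t⁻¹ * g)⁻¹ * d * (t⁻¹ * g) ∈ HH T := fun d hd => by
    have h1 : t * d * t⁻¹ ∈ DD T v := hte.ge ⟨d, hd, rfl⟩
    have h2 := mem_conjMap.mp h1.2
    have h3 := mul_mem (mul_mem (inv_mem hvg) h2) hvg
    simpa [mul_assoc] using h3
  rcases fixed h hu2 hu hfix with h1 | h1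
  · exact absurd (show g ∈ HH T by
      have := mul_mem (show t ∈ HH T from le_normalizer ht) h1
      rwa [mul_inv_cancel_left] at this) hg
  · simpa [mul_assoc] using h1

end Cfsg.Lib.Invol.EA
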