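import Cfsg.Agent.Lib.Invol.Basic
import Cfsg.Prelude.Def_TwoFusion

/-!
Elementary theory of isolated involutions.
-/

set_option autoImplicit false

namespace Cfsg.Lib.Invol

variable {G : Type*} [Group G]

/-- Two involutions with product of odd order are conjugate by a power of the product. -/
theorem exists_conj_zpowers_of_odd {x y : G} (hx : orderOf x = 2) (hy : orderOf y = 2)
    (hodd : Odd (orderOf (x * y))) :
    ∃ d ∈ Subgroup.zpowers (x * y), d * x * d⁻¹ = y := by
  obtain ⟨m, hm⟩ := hodd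
  refine ⟨(x * y) ^ (m : ℤ), Subgroup.zpow_mem _ (Subgroup.mem_zpowers _) _, ?_⟩
  have h1 := zpow_mul_of_inverts (inv_mul_self hx) (conj_mul_left hx hy) (m : ℤ)
  rw [h1, mul_assoc, ← zpow_neg, ← zpow_add]
  have h2 : (x * y) ^ (-(m : ℤ) + -(m : ℤ)) = x * y := by
    nth_rewrite 2 [← zpow_one (x * y)]
    rw [zpow_eq_zpow_iff_modEq, hm, Int.modEq_iff_dvd]
    exact ⟨1, by push_cast; ring⟩
  rw [h2, ← mul_assoc, inv_mul_self hx, one_mul]

theorem commute_iff_conj_eq {a b : G} : Commute a b ↔ a * b * a⁻¹ = b :=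
  mul_inv_eq_iff_eq_mul.symm

/-- A conjugate of an isolated involution has product of odd order with it. -/
theorem isolated_odd_product [Finite G] {z : G} (hz : IsIsolatedInvolution z) (g : G) :
    Odd (orderOf (z * (g * z * g⁻¹))) := by
  set u := g * z * g⁻¹ with hu_def
  have hu : orderOf u = 2 := by rw [hu_def, orderOf_conj_eq, hz.1]
  rw [← Nat.not_even_iff_odd]
  intro heven
  obtain ⟨m, hm⟩ := heven
  have hcent := central_involution hz.1 hu ⟨m, hm⟩
  set r := z * u with hr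
  have hpos : 0 < orderOf r := orderOf_pos r
  have hdiv : orderOf r / 2 = m := by omega
  rw [hdiv] at hcent
  obtain ⟨hw, hcz, hcu⟩ := hcent
  have hxx := inv_mul_self hz.1
  have hinv := conj_mul_left hz.1 hu
  obtain ⟨c, hc⟩ : ∃ c : G, c * z * c⁻¹ = z * r ^ m := by
    rcases Nat.even_or_odd m with ⟨j, hj⟩ | ⟨j, hj⟩
    · refine ⟨r ^ (j : ℤ), ?_⟩
      rw [zpow_mul_of_inverts hxx hinv, mul_assoc, ← zpow_neg, ← zpow_add, ← zpow_natCast]
      congr 1
      rw [zpow_eq_zpow_iff_modEq, hm, Int.modEq_iff_dvd]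
      exact ⟨1, by push_cast [hj]; ring⟩
    · refine ⟨r ^ (-(j : ℤ)) * g, ?_⟩
      have hu' : u = z * r := by rw [hr, ← mul_assoc, hxx, one_mul]
      calc r ^ (-(j : ℤ)) * g * z * (r ^ (-(j : ℤ)) * g)⁻¹
          = r ^ (-(j : ℤ)) * u * r ^ (j : ℤ) := by rw [hu_def]; group
        _ = (r ^ (-(j : ℤ)) * z) * r * r ^ (j : ℤ) := by rw [hu']; group
        _ = z * (r ^ (j : ℤ) * r * r ^ (j : ℤ)) := by
            rw [zpow_mul_of_inverts hxx hinv, neg_neg]; simp only [mul_assoc, ← hr]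
        _ = z * r ^ m := by
            rw [← zpow_natCast r m, ← zpow_add_one, ← zpow_add]; congr 2; omega
  have h2 := hz.2 c (hc.symm ▸ (Commute.refl z).mul_right hcz.symm)
  rw [hc] at h2
  exact ne_one hw (mul_eq_left.mp h2)

theorem isolated_conj {z : G} (hz : IsIsolatedInvolution z) (g : G) :
    IsIsolatedInvolution (g * z * g⁻¹) := by
  refine ⟨by rw [orderOf_conj_eq, hz.1], fun h hc => ?_⟩
  have h1 : h * (g * z * g⁻¹) * h⁻¹ = g * ((g⁻¹ * h * g) * z * (g⁻¹ * h * g)⁻¹) * g⁻¹ := by group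
  rw [h1] at hc ⊢
  rw [hz.2 (g⁻¹ * h * g)]
  exact (Commute.conj_iff g).mp hc

/-- A conjugate of an isolated involution is conjugate to it by a power of the product. -/
theorem isolated_conj_by_product [Finite G] {z : G} (hz : IsIsolatedInvolution z) (g : G) :
    ∃ d ∈ Subgroup.zpowers (z * (g * z * g⁻¹)), d * z * d⁻¹ = g * z * g⁻¹ :=
  exists_conj_zpowers_of_odd hz.1 (by rw [orderOf_conj_eq, hz.1]) (isolated_odd_product hz g)

/-- An involution with no other conjugate in a Sylow 2-subgroup containing it is isolated. -/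
theorem isolated_of_sylow [Finite G] (S : Sylow 2 G) {t : G} (ht : orderOf t = 2)
    (hiso : ∀ g : G, g * t * g⁻¹ ∈ S → g * t * g⁻¹ = t) : IsIsolatedInvolution t := by
  refine ⟨ht, fun g hc => ?_⟩
  set u := g * t * g⁻¹ with hu_def
  have hu : orderOf u = 2 := by rw [hu_def, orderOf_conj_eq, ht]
  have : Fact (Nat.Prime 2) := ⟨Nat.prime_two⟩
  have hK : IsPGroup 2 (Subgroup.closure ({t, u} : Set G)) := by
    intro x
    refine ⟨1, Subtype.ext ?_⟩
    rw [pow_one, SubmonoidClass.coe_pow, Subgroup.coe_one, pow_two]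
    obtain ⟨k, hk | hk⟩ := (mem_closure_pair ht hu).mp x.2
    · rw [hk, ← zpow_add, ← two_mul, zpow_mul, zpow_two, hc.symm.mul_mul_mul_comm,
        inv_mul_self ht, inv_mul_self hu, one_mul, one_zpow]
    · rw [hk]; exact mul_zpow_sq (inv_mul_self ht) (conj_mul_left ht hu) k
  obtain ⟨Q, hQ⟩ := hK.exists_le_sylow
  obtain ⟨h, hh⟩ := MulAction.exists_smul_eq G S Q
  have hmem : ∀ x ∈ (Q : Subgroup G), h⁻¹ * x * h ∈ (S : Subgroup G) := by
    intro x hx
    rw [← hh] at hx
    have := (Subgroup.mem_pointwise_smul_iff_inv_smul_mem (a := MulAut.conj h)).mp hx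
    simpa [MulAut.smul_def] using this
  have h1 := hmem t (hQ (Subgroup.subset_closure (by simp)))
  have h2 := hmem u (hQ (Subgroup.subset_closure (by simp)))
  have e1 : h⁻¹ * t * h = t := by
    simpa using hiso h⁻¹ (by rw [inv_inv]; exact h1)
  have e2 : h⁻¹ * u * h = t := by
    have h3 : h⁻¹ * u * h = (h⁻¹ * g) * t * (h⁻¹ * g)⁻¹ := by rw [hu_def]; group
    rw [h3] at h2 ⊢
    exact hiso _ h2
  calc u = h * (h⁻¹ * u * h) * h⁻¹ := by group
    _ = h * (h⁻¹ * t * h) * h⁻¹ := by rw [e2, e1]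
    _ = t := by group

/-- An isolated involution has no other conjugate in any 2-subgroup containing it. -/
theorem isolated_eq_of_mem [Finite G] {z : G} (hz : IsIsolatedInvolution z) {T : Subgroup G}
    (hT : IsPGroup 2 T) (hzT : z ∈ T) (g : G) (hg : g * z * g⁻¹ ∈ T) : g * z * g⁻¹ = z := by
  have hodd := isolated_odd_product hz g
  obtain ⟨k, hk⟩ := hT ⟨_, T.mul_mem hzT hg⟩
  have h1 : orderOf (z * (g * z * g⁻¹)) ∣ 2 ^ k := by
    apply orderOf_dvd_of_pow_eq_one
    simpa using congrArg Subtype.val hk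
  have h2 : z * (g * z * g⁻¹) = 1 := orderOf_eq_one_iff.mp <|
    Nat.eq_one_of_dvd_coprimes (Nat.Coprime.pow_left k (Nat.coprime_two_left.mpr hodd)) h1 dvd_rfl
  have h3 := eq_inv_of_mul_eq_one_right h2
  rwa [inv_eq_self hz.1] at h3

/-- The centraliser of an isolated involution controls fusion in itself. -/
theorem isolated_fusion [Finite G] {z : G} (hz : IsIsolatedInvolution z) {H : Subgroup G}
    (hzH : ∀ h ∈ H, z * h * z⁻¹ ∈ H) {x y h : G} (hh : h ∈ H) (hxz : Commute x z)
    (hyz : Commute y z) (hconj : h * x * h⁻¹ = y) :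
    ∃ c ∈ H, Commute c z ∧ c * x * c⁻¹ = y := by
  obtain ⟨d, hd, hdz⟩ := isolated_conj_by_product hz h⁻¹
  rw [inv_inv] at hd hdz
  set u := h⁻¹ * z * h with hu_def
  have hxu : Commute x u := by
    have h1 : x * u * x⁻¹ = u := by
      rw [← hconj] at hyz
      have := commute_iff_conj_eq.mp hyz
      calc x * u * x⁻¹ = h⁻¹ * ((h * x * h⁻¹) * z * (h * x * h⁻¹)⁻¹) * h := by rw [hu_def]; group
        _ = u := by rw [this]
    exact commute_iff_conj_eq.mpr h1
  obtain ⟨k, hk⟩ := Subgroup.mem_zpowers_iff.mp hd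
  have hdx : Commute x d := hk ▸ (hxz.mul_right hxu).zpow_right k
  have hdH : d ∈ H := by
    refine (Subgroup.zpowers_le.mpr ?_) hd
    have : z * u = (z * h⁻¹ * z⁻¹) * h := by rw [hu_def, inv_eq_self hz.1]; group
    rw [this]
    exact H.mul_mem (hzH _ (H.inv_mem hh)) hh
  refine ⟨h * d, H.mul_mem hh hdH, ?_, ?_⟩
  · apply commute_iff_conj_eq.mpr
    calc h * d * z * (h * d)⁻¹ = h * (d * z * d⁻¹) * h⁻¹ := by group
      _ = z := by rw [hdz, hu_def]; group
  · calc h * d * x * (h * d)⁻¹ = h * (d * x * d⁻¹) * h⁻¹ := by group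
      _ = y := by rw [commute_iff_conj_eq.mp hdx.symm, hconj]

/-- Elements of odd order have unique square roots of odd order. -/
theorem odd_sq_inj {a b : G} (ha : Odd (orderOf a)) (hb : Odd (orderOf b)) (h : a * a = b * b) :
    a = b := by
  have key : ∀ {c : G} (n : ℕ), Odd n → orderOf c ∣ n → (c * c) ^ ((n + 1) / 2) = c := by
    intro c n hn hc
    obtain ⟨j, hj⟩ := hn
    rw [← pow_two, ← pow_mul, show 2 * ((n + 1) / 2) = n + 1 by omega, pow_succ,
      orderOf_dvd_iff_pow_eq_one.mp hc, one_mul]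
  have h1 := key (c := a) (orderOf a * orderOf b) (ha.mul hb) (dvd_mul_right _ _)
  have h2 := key (c := b) (orderOf a * orderOf b) (ha.mul hb) (dvd_mul_left _ _)
  rw [h] at h1
  exact h1.symm.trans h2

/-- Each coset of the centraliser contains exactly one element of odd order inverted by `z`. -/
theorem isolated_coset_unique [Finite G] {z : G} (hz : IsIsolatedInvolution z) (g : G) :
    ∃! k : G, (Odd (orderOf k) ∧ z * k * z⁻¹ = k⁻¹) ∧
      g⁻¹ * k ∈ Subgroup.centralizer ({z} : Set G) := by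
  set u := g * z * g⁻¹ with hu_def
  have hu : orderOf u = 2 := by rw [hu_def, orderOf_conj_eq, hz.1]
  have hodd : Odd (orderOf (u * z)) := by
    have := isolated_odd_product hz g
    rwa [← orderOf_inv, mul_inv_rev, inv_eq_self hz.1, inv_eq_self hu] at this
  have hzinv : z * (u * z) * z⁻¹ = (u * z)⁻¹ := conj_mul_right hu hz.1
  have hmem : ∀ k : G, z * k * z⁻¹ = k⁻¹ →
      (g⁻¹ * k ∈ Subgroup.centralizer ({z} : Set G) ↔ k * k = u * z) := by
    intro k hk
    rw [Subgroup.mem_centralizer_singleton_iff]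
    have h1 : z * k⁻¹ = k * z := by
      rw [← hk, inv_eq_self hz.1, ← mul_assoc, ← mul_assoc, inv_mul_self hz.1, one_mul]
    have h2 : k * z * k⁻¹ = k * k * z := by rw [mul_assoc, h1, mul_assoc]
    constructor
    · intro h
      have h3 : k * k * z = u := by
        rw [← h2, hu_def]
        calc k * z * k⁻¹ = g * (g⁻¹ * k * z) * k⁻¹ := by group
          _ = g * z * g⁻¹ := by rw [h]; group
      rw [← h3, mul_assoc (k * k), inv_mul_self hz.1, mul_one]
    · intro h
      have h3 : k * z * k⁻¹ = g * z * g⁻¹ := by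
        rw [h2, h, mul_assoc, inv_mul_self hz.1, mul_one, hu_def]
      calc g⁻¹ * k * z = g⁻¹ * (k * z * k⁻¹) * k := by group
        _ = z * (g⁻¹ * k) := by rw [h3]; group
  obtain ⟨j, hj⟩ := hodd
  have hsq : (u * z) ^ (j + 1) * (u * z) ^ (j + 1) = u * z := by
    rw [← pow_add, show j + 1 + (j + 1) = (2 * j + 1) + 1 by omega, ← hj, pow_succ,
      pow_orderOf_eq_one, one_mul]
  have hko : Odd (orderOf ((u * z) ^ (j + 1))) :=
    (show Odd (orderOf (u * z)) from ⟨j, hj⟩).of_dvd_nat (orderOf_pow_dvd _)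
  have hki : z * (u * z) ^ (j + 1) * z⁻¹ = ((u * z) ^ (j + 1))⁻¹ := by
    rw [← conj_pow, hzinv, inv_pow]
  refine ⟨(u * z) ^ (j + 1), ⟨⟨hko, hki⟩, (hmem _ hki).mpr hsq⟩, ?_⟩
  rintro k ⟨⟨hk1, hk2⟩, hk3⟩
  exact odd_sq_inj hk1 hko (((hmem k hk2).mp hk3).trans hsq.symm)

/-- The image of an isolated involution in a quotient. -/
theorem isolated_quotient [Finite G] {z : G} (hz : IsIsolatedInvolution z) (N : Subgroup G)
    [N.Normal] (hzN : z ∉ N) :
    Subgroup.centralizer ({(QuotientGroup.mk z : G ⧸ N)} : Set (G ⧸ N)) =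
        (Subgroup.centralizer ({z} : Set G)).map (QuotientGroup.mk' N) ∧
      IsIsolatedInvolution (QuotientGroup.mk z : G ⧸ N) := by
  have key : ∀ g : G, Commute (QuotientGroup.mk z : G ⧸ N) (QuotientGroup.mk (g * z * g⁻¹)) →
      z * (g * z * g⁻¹) ∈ N := by
    intro g hg
    set u := g * z * g⁻¹ with hu_def
    have hu : orderOf u = 2 := by rw [hu_def, orderOf_conj_eq, hz.1]
    have hsq : (z * u) * (z * u) ∈ N := by
      rw [← QuotientGroup.eq_one_iff]
      simp only [QuotientGroup.mk_mul]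
      rw [hg.symm.mul_mul_mul_comm, ← QuotientGroup.mk_mul, ← QuotientGroup.mk_mul,
        inv_mul_self hz.1, inv_mul_self hu, QuotientGroup.mk_one, one_mul]
    obtain ⟨j, hj⟩ := isolated_odd_product hz g
    rw [← hu_def] at hj
    have : ((z * u) * (z * u)) ^ (j + 1) = z * u := by
      rw [← pow_two, ← pow_mul, show 2 * (j + 1) = 2 * j + 1 + 1 by omega, ← hj, pow_succ,
        pow_orderOf_eq_one, one_mul]
    rw [← this]; exact N.pow_mem hsq _
  have hz' : orderOf (QuotientGroup.mk z : G ⧸ N) = 2 := by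
    refine orderOf_eq_two_of (fun h => hzN ((QuotientGroup.eq_one_iff z).mp h)) ?_
    rw [← QuotientGroup.mk_mul, inv_mul_self hz.1, QuotientGroup.mk_one]
  constructor
  · apply le_antisymm
    · intro x hx
      obtain ⟨g, rfl⟩ := QuotientGroup.mk_surjective x
      rw [Subgroup.mem_centralizer_singleton_iff] at hx
      have hgz : (QuotientGroup.mk (g * z * g⁻¹) : G ⧸ N) = QuotientGroup.mk z := by
        rw [QuotientGroup.mk_mul, QuotientGroup.mk_mul, QuotientGroup.mk_inv, hx,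
          mul_inv_cancel_right]
      have hN := key g (hgz ▸ Commute.refl _)
      obtain ⟨d, hd, hdz⟩ := isolated_conj_by_product hz g
      have hdN : d ∈ N := (Subgroup.zpowers_le.mpr hN) hd
      refine ⟨d⁻¹ * g, ?_, ?_⟩
      · rw [SetLike.mem_coe, Subgroup.mem_centralizer_singleton_iff]
        calc d⁻¹ * g * z = d⁻¹ * (g * z * g⁻¹) * g := by group
          _ = z * (d⁻¹ * g) := by rw [← hdz]; group
      · simp [(QuotientGroup.eq_one_iff d).mpr hdN]
    · rintro x ⟨c, hc, rfl⟩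
      rw [SetLike.mem_coe, Subgroup.mem_centralizer_singleton_iff] at hc
      rw [Subgroup.mem_centralizer_singleton_iff, QuotientGroup.mk'_apply, ← QuotientGroup.mk_mul,
        hc, QuotientGroup.mk_mul]
  · refine ⟨hz', fun x hx => ?_⟩
    obtain ⟨g, rfl⟩ := QuotientGroup.mk_surjective x
    rw [← QuotientGroup.mk_inv, ← QuotientGroup.mk_mul, ← QuotientGroup.mk_mul] at hx ⊢
    rw [QuotientGroup.eq]
    have h := N.inv_mem (key g hx)
    rw [mul_inv_rev, inv_eq_self hz.1] at h
    exact h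

end Cfsg.Lib.Invol
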