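import Cfsg.Agent.Lib.Invol.Basic
import Cfsg.Prelude.Def_Involutions
import Mathlib.GroupTheory.GroupAction.Quotient

/-!
Strongly embedded subgroups: fusion criterion, conjugacy of involutions, transitivity counts.
-/

set_option autoImplicit false

namespace Cfsg.Lib.Invol

variable {G : Type*} [Group G]

theorem exists_involution_of_even {H : Subgroup G} [Finite H] (h : Even (Nat.card H)) :
    ∃ t ∈ H, orderOf t = 2 := by
  have : Fact (Nat.Prime 2) := ⟨Nat.prime_two⟩
  obtain ⟨t, ht⟩ := exists_prime_orderOf_dvd_card' (G := H) 2 (even_iff_two_dvd.mp h)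
  exact ⟨t, t.2, by rw [Subgroup.orderOf_coe, ht]⟩

theorem mem_conjMap {g x : G} {H : Subgroup G} :
    x ∈ H.map (MulAut.conj g).toMonoidHom ↔ g⁻¹ * x * g ∈ H := by
  rw [Subgroup.mem_map]
  constructor
  · rintro ⟨y, hy, rfl⟩; simpa [mul_assoc] using hy
  · exact fun h => ⟨_, h, by simp [mul_assoc]⟩

/-- A proper subgroup of even order is strongly embedded exactly when an element conjugating one
of its involutions into it lies in it. -/
theorem stronglyEmbedded_iff [Finite G] {H : Subgroup G} (hH : H ≠ ⊤) (heven : Even (Nat.card H)) :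
    IsStronglyEmbedded H ↔
      ∀ t ∈ H, orderOf t = 2 → ∀ g : G, g * t * g⁻¹ ∈ H → g ∈ H := by
  constructor
  · intro h t ht ht2 g hg
    by_contra hgH
    have hodd := h.2.2 g⁻¹ (fun hm => hgH (by simpa using H.inv_mem hm))
    refine (Nat.not_even_iff_odd.mpr hodd) ?_
    have hmem : t ∈ H ⊓ H.map (MulAut.conj g⁻¹).toMonoidHom :=
      ⟨ht, mem_conjMap.mpr (by simpa using hg)⟩
    rw [even_iff_two_dvd, ← ht2]
    exact Subgroup.orderOf_dvd_natCard _ hmem
  · intro h
    refine ⟨hH, heven, fun g hg => ?_⟩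
    rw [← Nat.not_even_iff_odd]
    intro he
    obtain ⟨t, ⟨ht, htc⟩, ht2⟩ := exists_involution_of_even he
    have h1 := h t ht ht2 g⁻¹ (by simpa [mul_assoc] using mem_conjMap.mp htc)
    exact hg (by simpa using H.inv_mem h1)

theorem se_mem {H : Subgroup G} [Finite G] (hH : IsStronglyEmbedded H) {t g : G} (ht : t ∈ H)
    (ht2 : orderOf t = 2) (hg : g * t * g⁻¹ ∈ H) : g ∈ H :=
  (stronglyEmbedded_iff hH.1 hH.2.1).mp hH t ht ht2 g hg

theorem se_centralizer {H : Subgroup G} [Finite G] (hH : IsStronglyEmbedded H) {t g : G}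
    (ht : t ∈ H) (ht2 : orderOf t = 2) (hg : Commute g t) : g ∈ H :=
  se_mem hH ht ht2 (by rw [hg.eq, mul_inv_cancel_right]; exact ht)

/-- Involutions in different conjugates of a strongly embedded subgroup have product of odd order. -/
theorem se_odd_product {H : Subgroup G} [Finite G] (hH : IsStronglyEmbedded H) {s v : G}
    (hs : s ∈ H) (hs2 : orderOf s = 2) (hv : v ∉ H) (hv2 : orderOf v = 2) :
    Odd (orderOf (s * v)) := by
  rw [← Nat.not_even_iff_odd]
  intro he
  obtain ⟨hw, hws, hwv⟩ := central_involution hs2 hv2 he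
  exact hv (se_centralizer hH (se_centralizer hH hs hs2 hws) hw hwv.symm)

/-- There is an involution outside a strongly embedded subgroup. -/
theorem se_exists_outside {H : Subgroup G} [Finite G] (hH : IsStronglyEmbedded H) :
    ∃ v : G, v ∉ H ∧ orderOf v = 2 := by
  obtain ⟨t, ht, ht2⟩ := exists_involution_of_even hH.2.1
  obtain ⟨g, hg⟩ : ∃ g : G, g ∉ H := by
    by_contra hc
    push Not at hc
    exact hH.1 (eq_top_iff.mpr fun g _ => hc g)
  exact ⟨g * t * g⁻¹, fun h => hg (se_mem hH ht ht2 h), by rw [orderOf_conj_eq, ht2]⟩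

/-- A group with a strongly embedded subgroup has one class of involutions. -/
theorem se_isConj {H : Subgroup G} [Finite G] (hH : IsStronglyEmbedded H) {a b : G}
    (ha : orderOf a = 2) (hb : orderOf b = 2) : IsConj a b := by
  obtain ⟨v, hv, hv2⟩ := se_exists_outside hH
  obtain ⟨t, ht, ht2⟩ := exists_involution_of_even hH.2.1
  have key : ∀ c : G, orderOf c = 2 → IsConj c t := by
    intro c hc
    by_cases hcH : c ∈ H
    · exact (isConj_of_odd hc hv2 (se_odd_product hH hcH hc hv hv2)).trans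
        (isConj_of_odd ht2 hv2 (se_odd_product hH ht ht2 hv hv2)).symm
    · exact (isConj_of_odd ht2 hc (se_odd_product hH ht ht2 hcH hc)).symm
  exact (key a ha).trans (key b hb).symm

theorem smul_coset_one_eq {H : Subgroup G} {g : G} :
    g • (QuotientGroup.mk 1 : G ⧸ H) = QuotientGroup.mk 1 ↔ g ∈ H := by
  rw [MulAction.Quotient.smul_mk, QuotientGroup.eq]
  simp

theorem smul_coset_eq_iff {H : Subgroup G} {g c : G} :
    g • (QuotientGroup.mk c : G ⧸ H) = QuotientGroup.mk c ↔ c⁻¹ * g * c ∈ H := by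
  rw [MulAction.Quotient.smul_mk, QuotientGroup.eq]
  simp only [smul_eq_mul, mul_inv_rev]
  rw [← H.inv_mem_iff]
  simp [mul_assoc]

/-- An involution fixes at most one coset of a strongly embedded subgroup. -/
theorem se_fixed_unique {H : Subgroup G} [Finite G] (hH : IsStronglyEmbedded H) {t : G}
    (ht2 : orderOf t = 2) {x y : G ⧸ H} (hx : t • x = x) (hy : t • y = y) : x = y := by
  obtain ⟨a, rfl⟩ := QuotientGroup.mk_surjective x
  obtain ⟨b, rfl⟩ := QuotientGroup.mk_surjective y
  rw [smul_coset_eq_iff] at hx hy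
  rw [QuotientGroup.eq]
  have h2 : orderOf (a⁻¹ * t * a) = 2 := by
    rw [show a⁻¹ * t * a = a⁻¹ * t * a⁻¹⁻¹ by group, orderOf_conj_eq, ht2]
  have h := se_mem hH hx h2 (g := b⁻¹ * a) (by
    rw [show b⁻¹ * a * (a⁻¹ * t * a) * (b⁻¹ * a)⁻¹ = b⁻¹ * t * b by group]; exact hy)
  rw [← H.inv_mem_iff]
  simpa [mul_assoc] using h

/-- The set of involutions carrying one coset to another. -/
abbrev SwapSet (H : Subgroup G) (x y : G ⧸ H) : Type _ :=
  {i : G // orderOf i = 2 ∧ i • x = y}

/-- The involutions fixing a coset. -/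
abbrev FixSet (H : Subgroup G) (x : G ⧸ H) : Type _ :=
  {t : G // orderOf t = 2 ∧ t • x = x}

/-- Conjugation identifies the involutions fixing any coset with those of `H`. -/
theorem card_fixSet (H : Subgroup G) (x : G ⧸ H) :
    Nat.card (FixSet H x) = Nat.card {t : G // orderOf t = 2 ∧ t ∈ H} := by
  obtain ⟨a, rfl⟩ := QuotientGroup.mk_surjective x
  apply Nat.card_congr
  refine (MulAut.conj a⁻¹).toEquiv.subtypeEquiv (fun t => ?_)
  rw [smul_coset_eq_iff]
  simp only [MulEquiv.toEquiv_eq_coe, MulEquiv.coe_toEquiv, MulAut.conj_apply]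
  rw [orderOf_conj_eq, inv_inv]

theorem exists_swap_aux {H : Subgroup G} [Finite G] (hH : IsStronglyEmbedded H) {x y : G ⧸ H}
    (hxy : x ≠ y) (t : FixSet H x) (t' : FixSet H y) :
    ∃ i : SwapSet H x y, i.1 * t.1 * i.1⁻¹ = t'.1 := by
  obtain ⟨t, ht2, htx⟩ := t
  obtain ⟨t', ht2', hty⟩ := t'
  have hodd : Odd (orderOf (t * t')) := by
    rw [← Nat.not_even_iff_odd]
    intro he
    obtain ⟨hw, hwt, hwt'⟩ := central_involution ht2 ht2' he
    set w := (t * t') ^ (orderOf (t * t') / 2)
    have h1 : w • x = x := se_fixed_unique hH ht2 (by rw [← mul_smul, ← hwt.eq, mul_smul, htx]) htx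
    have h2 : w • y = y := se_fixed_unique hH ht2' (by rw [← mul_smul, ← hwt'.eq, mul_smul, hty]) hty
    exact hxy (se_fixed_unique hH hw h1 h2)
  obtain ⟨d, hd, hdt⟩ := exists_conj_of_odd ht2 ht2' hodd
  have hne : t ≠ t' := fun h => hxy (se_fixed_unique hH ht2 htx (h ▸ hty))
  obtain ⟨i, hi2, hit⟩ : ∃ i : G, orderOf i = 2 ∧ i * t * i⁻¹ = t' := by
    have htt := inv_mul_self ht2
    have hinv := conj_mul_left ht2 ht2'
    obtain ⟨k, hk | hk⟩ := (mem_closure_pair ht2 ht2').mp hd
    · refine ⟨d * t, orderOf_eq_two_of (fun h => hne ?_) ?_, ?_⟩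
      · rw [← hdt, eq_inv_of_mul_eq_one_left h]; group
      · rw [hk, zpow_mul_of_inverts htt hinv]; exact mul_zpow_sq htt hinv _
      · rw [← hdt]; group
    · refine ⟨d, orderOf_eq_two_of (fun h => hne ?_) (hk ▸ mul_zpow_sq htt hinv k), hdt⟩
      rw [← hdt, h]; group
  refine ⟨⟨i, hi2, se_fixed_unique hH ht2' ?_ hty⟩, hit⟩
  rw [← mul_smul, ← hit, inv_mul_cancel_right, mul_smul, htx]

/-- For cosets `x ≠ y` of a strongly embedded subgroup, the involutions moving `x` to `y` are as
many as the involutions fixing `x`, and each choice of involutions fixing `x` and `y` is realised. -/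
theorem se_swap [Finite G] {H : Subgroup G} (hH : IsStronglyEmbedded H) {x y : G ⧸ H}
    (hxy : x ≠ y) :
    Nat.card (SwapSet H x y) = Nat.card {t : G // orderOf t = 2 ∧ t ∈ H} ∧
      ∀ i : SwapSet H x y, ∀ t' : FixSet H y, ∃ t : FixSet H x, i.1 * t.1 * i.1⁻¹ = t'.1 := by
  classical
  have hback : ∀ i : SwapSet H x y, i.1 • y = x := by
    rintro ⟨i, hi, rfl⟩
    rw [← mul_smul, inv_mul_self hi, one_smul]
  have hpart : ∀ i : SwapSet H x y, ∀ t' : FixSet H y, ∃ t : FixSet H x, i.1 * t.1 * i.1⁻¹ = t'.1 := by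
    intro i t'
    refine ⟨⟨i.1⁻¹ * t'.1 * i.1⁻¹⁻¹, by rw [orderOf_conj_eq, t'.2.1], ?_⟩, by group⟩
    rw [inv_inv, inv_eq_self i.2.1, mul_smul, mul_smul, i.2.2, t'.2.2, hback i]
  refine ⟨le_antisymm ?_ ?_, hpart⟩
  · -- the sum over all `y ≠ x` of these numbers is the number of involutions moving `x`
    have : Fintype G := Fintype.ofFinite G
    have : Fintype (G ⧸ H) := Fintype.ofFinite _
    set m := Nat.card {t : G // orderOf t = 2 ∧ t ∈ H} with hm
    by_contra hlt
    push Not at hlt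
    have hge : ∀ z : G ⧸ H, z ≠ x → m ≤ Nat.card (SwapSet H x z) := by
      intro z hz
      obtain ⟨t', ht'⟩ : ∃ t' : G, orderOf t' = 2 ∧ t' • z = z := by
        obtain ⟨a, rfl⟩ := QuotientGroup.mk_surjective z
        obtain ⟨t, ht, ht2⟩ := exists_involution_of_even hH.2.1
        refine ⟨a * t * a⁻¹, by rw [orderOf_conj_eq, ht2], ?_⟩
        rw [smul_coset_eq_iff]; simpa [mul_assoc] using ht
      rw [hm, ← card_fixSet H x]
      choose f hf using fun t : FixSet H x => exists_swap_aux hH (Ne.symm hz) t ⟨t', ht'⟩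
      refine Nat.card_le_card_of_injective f (fun a b hab => Subtype.ext ?_)
      have h1 := hf a
      rw [hab, ← hf b] at h1
      exact (MulAut.conj (f b).1).injective h1
    have htot : ∑ z : G ⧸ H, Nat.card (SwapSet H x z) = Nat.card {i : G // orderOf i = 2} := by
      rw [← Nat.card_sigma]
      exact Nat.card_congr ⟨fun p => ⟨p.2.1, p.2.2.1⟩, fun i => ⟨i.1 • x, i.1, i.2, rfl⟩,
        fun ⟨z, i, hi, hz⟩ => by subst hz; rfl, fun i => rfl⟩
    have hcount : Nat.card {i : G // orderOf i = 2} ≤ ∑ z : G ⧸ H, Nat.card (FixSet H z) := by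
      rw [← Nat.card_sigma]
      have hfix : ∀ i : {i : G // orderOf i = 2}, ∃ z : G ⧸ H, i.1 • z = z := by
        intro i
        obtain ⟨t, ht, ht2⟩ := exists_involution_of_even hH.2.1
        obtain ⟨g, hg⟩ := isConj_iff.mp (se_isConj hH ht2 i.2)
        exact ⟨QuotientGroup.mk g, by rw [← hg, smul_coset_eq_iff]; simpa [mul_assoc] using ht⟩
      choose z hz using hfix
      refine Nat.card_le_card_of_injective (fun i => ⟨z i, i.1, i.2, hz i⟩) ?_
      intro a b hab
      exact Subtype.ext (congrArg (fun p : (z : G ⧸ H) × FixSet H z => p.2.1) hab :)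
    have hlt' : ∑ z : G ⧸ H, Nat.card (FixSet H z) < ∑ z : G ⧸ H, Nat.card (SwapSet H x z) := by
      refine Finset.sum_lt_sum (fun z _ => ?_) ⟨y, Finset.mem_univ _, ?_⟩
      · by_cases hz : z = x
        · subst hz; exact le_refl _
        · rw [card_fixSet]; exact hge z hz
      · rw [card_fixSet]; exact hlt
    omega
  · obtain ⟨t', ht'⟩ : ∃ t' : G, orderOf t' = 2 ∧ t' • y = y := by
      obtain ⟨a, rfl⟩ := QuotientGroup.mk_surjective y
      obtain ⟨t, ht, ht2⟩ := exists_involution_of_even hH.2.1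
      refine ⟨a * t * a⁻¹, by rw [orderOf_conj_eq, ht2], ?_⟩
      rw [smul_coset_eq_iff]; simpa [mul_assoc] using ht
    rw [← card_fixSet H x]
    choose f hf using fun t : FixSet H x => exists_swap_aux hH hxy t ⟨t', ht'⟩
    refine Nat.card_le_card_of_injective f (fun a b hab => Subtype.ext ?_)
    have h1 := hf a
    rw [hab, ← hf b] at h1
    exact (MulAut.conj (f b).1).injective h1

/-- Two involutions of `H` are conjugate by an element of `H ∩ uHu`. -/
theorem se_transitive [Finite G] {H : Subgroup G} (hH : IsStronglyEmbedded H) {u s t : G}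
    (hu : orderOf u = 2) (huH : u ∉ H) (hs : orderOf s = 2) (hsH : s ∈ H) (ht : orderOf t = 2)
    (htH : t ∈ H) :
    ∃ d ∈ H ⊓ H.map (MulAut.conj u).toMonoidHom, d * s * d⁻¹ = t := by
  let x : G ⧸ H := QuotientGroup.mk 1
  let y : G ⧸ H := QuotientGroup.mk u
  have hxy : x ≠ y := by
    intro h
    exact huH (by simpa [x, y, QuotientGroup.eq] using h)
  let t' : FixSet H y := ⟨u * s * u⁻¹, by rw [orderOf_conj_eq, hs],
    smul_coset_eq_iff.mpr (by simpa [mul_assoc] using hsH)⟩
  obtain ⟨hcard, hpart⟩ := se_swap hH hxy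
  choose f hf using fun a : FixSet H x => exists_swap_aux hH hxy a t'
  choose g hg using fun i : SwapSet H x y => hpart i t'
  obtain ⟨i, hi⟩ : ∃ i : SwapSet H x y, g i = ⟨t, ht, smul_coset_one_eq.mpr htH⟩ := by
    refine ⟨f ⟨t, ht, smul_coset_one_eq.mpr htH⟩, Subtype.ext ?_⟩
    have h1 := hg (f ⟨t, ht, smul_coset_one_eq.mpr htH⟩)
    rw [← hf ⟨t, ht, smul_coset_one_eq.mpr htH⟩] at h1
    exact (MulAut.conj _).injective h1
  have hit := hg i
  rw [hi] at hit
  refine ⟨i.1 * u, ⟨?_, ?_⟩, ?_⟩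
  · have h1 : (i.1 * u) • x = x := by
      have h2 : u • x = y := by simp [x, y]
      have h4 : i.1 • y = x := by
        obtain ⟨i, hi', hixy⟩ := i
        show i • y = x
        rw [← hixy, ← mul_smul, inv_mul_self hi', one_smul]
      rw [mul_smul, h2, h4]
    exact smul_coset_one_eq.mp h1
  · have h1 : (i.1 * u) • y = y := by
      have h2 : u • y = x := by
        have : u • x = y := by simp [x, y]
        rw [← this, ← mul_smul, inv_mul_self hu, one_smul]
      have h3 : i.1 • x = y := i.2.2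
      rw [mul_smul, h2, h3]
    exact mem_conjMap.mpr (smul_coset_eq_iff.mp h1)
  · simp only [t'] at hit
    rw [mul_inv_rev, inv_eq_self i.2.1]
    calc i.1 * u * s * (u⁻¹ * i.1) = i.1 * (u * s * u⁻¹) * i.1 := by group
      _ = i.1 * (i.1 * t * i.1⁻¹) * i.1 := by rw [hit]
      _ = (i.1 * i.1) * t * (i.1⁻¹ * i.1) := by group
      _ = t := by rw [inv_mul_self i.2.1, inv_mul_cancel, one_mul, mul_one]

end Cfsg.Lib.Invol
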