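import Cfsg.Agent.Lib.Invol.Isolated
import Cfsg.Agent.Lib.Invol.SylowTools

/-!
The order formula for an isolated involution and a commuting involution.
-/

set_option autoImplicit false
set_option linter.style.haveILetI false

namespace Cfsg.Lib.Invol

variable {G : Type*} [Group G]

/-- The elements of odd order inverted by `z`. -/
abbrev InvSet (z : G) (k : G) : Prop := Odd (orderOf k) ∧ z * k * z⁻¹ = k⁻¹

theorem coset_iff_conj {z g k : G} :
    g⁻¹ * k ∈ Subgroup.centralizer ({z} : Set G) ↔ k * z * k⁻¹ = g * z * g⁻¹ := by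
  rw [Subgroup.mem_centralizer_singleton_iff]
  constructor
  · intro h
    calc k * z * k⁻¹ = g * (g⁻¹ * k * z) * k⁻¹ := by group
      _ = g * z * g⁻¹ := by rw [h]; group
  · intro h
    calc g⁻¹ * k * z = g⁻¹ * (k * z * k⁻¹) * k := by group
      _ = z * (g⁻¹ * k) := by rw [h]; group

theorem invSet_eq [Finite G] {z : G} (hz : IsIsolatedInvolution z) {k l : G} (hk : InvSet z k)
    (hl : InvSet z l) (h : k * z * k⁻¹ = l * z * l⁻¹) : k = l := by
  obtain ⟨m, -, hm⟩ := isolated_coset_unique hz l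
  rw [hm k ⟨hk, coset_iff_conj.mpr h⟩, hm l ⟨hl, coset_iff_conj.mpr rfl⟩]

theorem exists_invSet [Finite G] {z : G} (hz : IsIsolatedInvolution z) (g : G) :
    ∃ k, InvSet z k ∧ k * z * k⁻¹ = g * z * g⁻¹ := by
  obtain ⟨k, ⟨hk, hk'⟩, -⟩ := isolated_coset_unique hz g
  exact ⟨k, hk, coset_iff_conj.mp hk'⟩

/-- An element commuting with `z` and with the conjugate of `z` by `k` commutes with `k`. -/
theorem invSet_commute [Finite G] {z : G} (hz : IsIsolatedInvolution z) {k x : G} (hk : InvSet z k)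
    (hxz : Commute x z) (hx : Commute x (k * z * k⁻¹)) : Commute k x := by
  have h1 : InvSet z (x * k * x⁻¹) := by
    refine ⟨by rw [orderOf_conj_eq]; exact hk.1, ?_⟩
    have hxz' : z * x = x * z := hxz.eq.symm
    calc z * (x * k * x⁻¹) * z⁻¹ = (z * x) * k * (z * x)⁻¹ := by group
      _ = x * (z * k * z⁻¹) * x⁻¹ := by rw [hxz']; group
      _ = (x * k * x⁻¹)⁻¹ := by rw [hk.2]; group
  have h2 : x * k * x⁻¹ = k := invSet_eq hz h1 hk (by
    calc x * k * x⁻¹ * z * (x * k * x⁻¹)⁻¹ = x * (k * (x⁻¹ * z * x) * k⁻¹) * x⁻¹ := by group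
      _ = x * (k * z * k⁻¹) * x⁻¹ := by
          rw [mul_assoc x⁻¹, ← hxz.eq, inv_mul_cancel_left]
      _ = k * z * k⁻¹ := by rw [hx.eq, mul_inv_cancel_right])
  exact (mul_inv_eq_iff_eq_mul.mp h2).symm

theorem card_eq_centralizer_mul [Finite G] {z : G} (hz : IsIsolatedInvolution z) :
    Nat.card G = Nat.card (Subgroup.centralizer ({z} : Set G)) * Nat.card {k : G // InvSet z k} := by
  rw [← (Subgroup.centralizer ({z} : Set G)).card_mul_index, Subgroup.index_eq_card]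
  refine congrArg _ (Nat.card_eq_of_bijective
    (fun k : {k : G // InvSet z k} => (QuotientGroup.mk k.1 : G ⧸ Subgroup.centralizer ({z} : Set G)))
    ⟨fun k l hkl => Subtype.ext (invSet_eq hz k.2 l.2
      ((coset_iff_conj.mp (QuotientGroup.eq.mp hkl)).symm)), fun c => ?_⟩).symm
  obtain ⟨g, rfl⟩ := QuotientGroup.mk_surjective c
  obtain ⟨k, hk, hkg⟩ := exists_invSet hz g
  exact ⟨⟨k, hk⟩, (QuotientGroup.eq.mpr (coset_iff_conj.mpr hkg)).symm⟩

theorem odd_factor_unique {q w q' w' : G} (hq : Odd (orderOf q)) (hq' : Odd (orderOf q'))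
    (hw : w * w = 1) (hw' : w' * w' = 1) (hc : Commute q w) (hc' : Commute q' w')
    (h : q * w = q' * w') : w = w' := by
  obtain ⟨m, hm⟩ := hq.mul hq'
  have key : ∀ {a b : G}, Commute a b → b * b = 1 → orderOf a ∣ 2 * m + 1 →
      (a * b) ^ (2 * m + 1) = b := by
    intro a b hab hb ha
    rw [hab.mul_pow, orderOf_dvd_iff_pow_eq_one.mp ha, one_mul, pow_succ, pow_mul, pow_two, hb,
      one_pow, one_mul]
  rw [← key hc hw (hm ▸ dvd_mul_right _ _), h, key hc' hw' (hm ▸ dvd_mul_left _ _)]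

theorem sq_of_inverted {z b : G} (hz2 : z * z = 1) (hb : z * b * z⁻¹ = b⁻¹) :
    b * z * b⁻¹ * z = b * b := by
  calc b * z * b⁻¹ * z = b * (z * b⁻¹ * z⁻¹) * (z * z) := by group
    _ = b * b := by rw [hz2, mul_one, ← conj_inv, hb, inv_inv]

/-- `|G| = |C_G(z)| |C_K(sz)| |C_K(s)|`. -/
theorem isolated_order_formula [Finite G] {z s : G} (hz : IsIsolatedInvolution z) (hs : orderOf s = 2)
    (hsz : Commute s z) :
    Nat.card G = Nat.card (Subgroup.centralizer ({z} : Set G)) *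
      (Nat.card {k : G // Odd (orderOf k) ∧ z * k * z⁻¹ = k⁻¹ ∧ Commute k (s * z)} *
        Nat.card {k : G // Odd (orderOf k) ∧ z * k * z⁻¹ = k⁻¹ ∧ Commute k s}) := by
  rw [card_eq_centralizer_mul hz]
  refine congrArg (Nat.card (Subgroup.centralizer ({z} : Set G)) * ·) ?_
  rw [← Nat.card_prod]
  have hz2 : z * z = 1 := inv_mul_self hz.1
  have hs2 : s * s = 1 := inv_mul_self hs
  let A := {k : G // Odd (orderOf k) ∧ z * k * z⁻¹ = k⁻¹ ∧ Commute k (s * z)}
  let B := {k : G // Odd (orderOf k) ∧ z * k * z⁻¹ = k⁻¹ ∧ Commute k s}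
  have rep : ∀ ab : A × B, ∃ k : {k : G // InvSet z k},
      k.1 * z * k.1⁻¹ = (ab.2.1 * ab.1.1) * z * (ab.2.1 * ab.1.1)⁻¹ := fun ab => by
    obtain ⟨k, hk, hk'⟩ := exists_invSet hz (ab.2.1 * ab.1.1)
    exact ⟨⟨k, hk⟩, hk'⟩
  choose F hF using rep
  refine (Nat.card_eq_of_bijective F ⟨?_, ?_⟩).symm
  · rintro ⟨⟨b, hb1, hb2, hb3⟩, ⟨a, ha1, ha2, ha3⟩⟩ ⟨⟨b', hb1', hb2', hb3'⟩, ⟨a', ha1', ha2', ha3'⟩⟩ h
    have hu := (hF (⟨b, hb1, hb2, hb3⟩, ⟨a, ha1, ha2, ha3⟩)).symm.trans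
      ((congrArg (fun k : {k : G // InvSet z k} => k.1 * z * k.1⁻¹) h).trans
        (hF (⟨b', hb1', hb2', hb3'⟩, ⟨a', ha1', ha2', ha3'⟩)))
    simp only at hu
    -- decomposition of `u * s`
    have dec : ∀ (a b : G), Odd (orderOf b) → z * b * z⁻¹ = b⁻¹ → Commute b (s * z) → Commute a s →
        Odd (orderOf (a * b * b * a⁻¹)) ∧ (a * (z * s) * a⁻¹) * (a * (z * s) * a⁻¹) = 1 ∧
        Commute (a * b * b * a⁻¹) (a * (z * s) * a⁻¹) ∧
        (a * b * b * a⁻¹) * (a * (z * s) * a⁻¹) = (a * b) * z * (a * b)⁻¹ * s := by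
      intro a b hb1 hb2 hb3 ha3
      have hzs : (z * s) * (z * s) = 1 := by
        rw [hsz.mul_mul_mul_comm, hz2, hs2, one_mul]
      have hbzs : Commute b (z * s) := by rw [← hsz.eq]; exact hb3
      refine ⟨?_, ?_, ?_, ?_⟩
      · rw [show a * b * b * a⁻¹ = a * (b * b) * a⁻¹ by group, orderOf_conj_eq, ← pow_two]
        exact hb1.of_dvd_nat (orderOf_pow_dvd 2)
      · rw [show a * (z * s) * a⁻¹ * (a * (z * s) * a⁻¹) = a * ((z * s) * (z * s)) * a⁻¹ by group,
          hzs, mul_one, mul_inv_cancel]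
      · rw [show a * b * b * a⁻¹ = a * (b * b) * a⁻¹ by group]
        exact (Commute.conj_iff a).mpr (hbzs.mul_left hbzs)
      · calc (a * b * b * a⁻¹) * (a * (z * s) * a⁻¹) = a * ((b * b) * z) * (s * a⁻¹) := by group
          _ = a * ((b * z * b⁻¹ * z) * z) * (s * a⁻¹) := by rw [sq_of_inverted hz2 hb2]
          _ = a * (b * z * b⁻¹ * (z * z)) * (s * a⁻¹) := by group
          _ = a * (b * z * b⁻¹) * (a⁻¹ * s) := by rw [hz2, mul_one, (ha3.symm.inv_right).eq]
          _ = (a * b) * z * (a * b)⁻¹ * s := by group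
    obtain ⟨d1, d2, d3, d4⟩ := dec a b hb1 hb2 hb3 ha3
    obtain ⟨d1', d2', d3', d4'⟩ := dec a' b' hb1' hb2' hb3' ha3'
    have hw := odd_factor_unique d1 d1' d2 d2' d3 d3' (by rw [d4, d4', hu])
    have haeq : a = a' := invSet_eq hz ⟨ha1, ha2⟩ ⟨ha1', ha2'⟩ (by
      have e : ∀ c : G, Commute c s → c * (z * s) * c⁻¹ = c * z * c⁻¹ * s := fun c hc => by
        calc c * (z * s) * c⁻¹ = c * z * (s * c⁻¹) := by group
          _ = c * z * c⁻¹ * s := by rw [(hc.symm.inv_right).eq]; group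
      rw [e a ha3, e a' ha3'] at hw
      exact mul_right_cancel hw)
    subst haeq
    have hbeq : b = b' := invSet_eq hz ⟨hb1, hb2⟩ ⟨hb1', hb2'⟩ (by
      calc b * z * b⁻¹ = a⁻¹ * ((a * b) * z * (a * b)⁻¹) * a := by group
        _ = b' * z * b'⁻¹ := by rw [hu]; group)
    subst hbeq
    rfl
  · rintro ⟨g, hg⟩
    set u := g * z * g⁻¹ with hu_def
    have hu : orderOf u = 2 := by rw [hu_def, orderOf_conj_eq, hz.1]
    haveI : Fact (Nat.Prime 2) := ⟨Nat.prime_two⟩
    have h2grp : ∀ x : G, orderOf x = 2 → IsPGroup 2 (Subgroup.zpowers x) := fun x hx =>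
      IsPGroup.of_card (n := 1) (by rw [Nat.card_zpowers, hx, pow_one])
    obtain ⟨c, hc, R, hR, hsR, huR⟩ := exists_common_pGroup (p := 2)
      (Subgroup.closure ({u, s} : Set G)) (K := Subgroup.zpowers s) (L := Subgroup.zpowers u)
      (Subgroup.zpowers_le.mpr (Subgroup.subset_closure (by simp)))
      (Subgroup.zpowers_le.mpr (Subgroup.subset_closure (by simp))) (h2grp s hs) (h2grp u hu)
    have hsR' : s ∈ R := hsR (Subgroup.mem_zpowers s)
    have huR' : c * u * c⁻¹ ∈ R := huR u (Subgroup.mem_zpowers u)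
    have hu'' : c * u * c⁻¹ = (c * g) * z * (c * g)⁻¹ := by rw [hu_def]; group
    have hcs : Commute s (c * u * c⁻¹) := by
      refine commute_iff_conj_eq.mpr (isolated_eq_of_mem ?_ hR huR' s
        (R.mul_mem (R.mul_mem hsR' huR') (R.inv_mem hsR')))
      rw [hu'']
      exact isolated_conj hz _
    obtain ⟨j, hj⟩ := conj_of_mem_closure_pair hu hs hc
    set w := c * u * c⁻¹ * s with hwdef
    have hwr : w = (u * s) ^ (-(2 * j) + 1) := by
      rw [hwdef, hj]
      calc u * (u * s) ^ (2 * j) * s = (u * s) ^ (-(2 * j)) * u * s := by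
            rw [zpow_mul_of_inverts (inv_mul_self hu) (conj_mul_left hu hs), neg_neg]
        _ = (u * s) ^ (-(2 * j) + 1) := by rw [zpow_add_one, mul_assoc]
    have hww : w * w = 1 := by
      rw [hwdef, hcs.mul_mul_mul_comm, hs2, mul_one]
      rw [show c * u * c⁻¹ * (c * u * c⁻¹) = c * (u * u) * c⁻¹ by group, inv_mul_self hu, mul_one,
        mul_inv_cancel]
    have huw : Commute u w := by
      refine commute_iff_conj_eq.mpr ?_
      calc u * w * u⁻¹ = u * (u * s) ^ (-(2 * j) + 1) * u⁻¹ := by rw [hwr]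
        _ = (u * s) ^ (-(-(2 * j) + 1)) := conj_zpow_of_inverts (conj_mul_left hu hs) _
        _ = w⁻¹ := by rw [zpow_neg, hwr]
        _ = w := inv_eq_of_mul_eq_one_right hww
    obtain ⟨a, ha, hau⟩ := exists_invSet hz (c * g)
    rw [← hu''] at hau
    have hacs : Commute a s := invSet_commute hz ha hsz (hau ▸ hcs)
    obtain ⟨b, hb, hbu⟩ := exists_invSet hz (a⁻¹ * g)
    have hbsz : Commute b (s * z) := by
      refine invSet_commute hz hb (hsz.mul_left (Commute.refl z)) ?_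
      rw [hbu]
      have hwa : s * z = a⁻¹ * w * a := by
        rw [hwdef, ← hau]
        calc s * z = z * (s * a⁻¹) * a := by rw [hsz.eq]; group
          _ = z * (a⁻¹ * s) * a := by rw [(hacs.symm.inv_right).eq]
          _ = a⁻¹ * (a * z * a⁻¹ * s) * a := by group
      rw [hwa, show a⁻¹ * g * z * (a⁻¹ * g)⁻¹ = a⁻¹ * u * a by rw [hu_def]; group]
      have := (Commute.conj_iff a⁻¹).mpr huw.symm
      rwa [inv_inv] at this
    refine ⟨(⟨b, hb.1, hb.2, hbsz⟩, ⟨a, ha.1, ha.2, hacs⟩), Subtype.ext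
      (invSet_eq hz (F _).2 hg ((hF _).trans ?_))⟩
    calc a * b * z * (a * b)⁻¹ = a * (b * z * b⁻¹) * a⁻¹ := by group
      _ = g * z * g⁻¹ := by rw [hbu]; group

end Cfsg.Lib.Invol
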