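import Cfsg.Agent.Lib.Invol.Isolated
import Cfsg.Agent.Lib.ZStar.Main
import Cfsg.Agent.Lib.Coprime.Action
import Cfsg.Agent.Lib.Fusion.Alperin

/-!
Sylow subgroups invariant under an isolated involution.
-/

set_option autoImplicit false
set_option linter.style.haveILetI false

namespace Cfsg.Lib.Invol

open Subgroup Cfsg
open scoped commutatorElement

variable {G : Type*} [Group G] [Finite G] {z : G}

theorem oddCore_facts (hz : IsIsolatedInvolution z) :
    zpowers z ≤ normalizer (oddCore G : Set G) ∧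
      (Nat.card (zpowers z)).Coprime (Nat.card (oddCore G)) ∧
      (Group.IsSolvable (zpowers z) ∨ Group.IsSolvable (oddCore G)) := by
  refine ⟨fun x _ => by rw [normalizer_eq_top (oddCore G)]; trivial, ?_, Or.inl inferInstance⟩
  rw [Nat.card_zpowers, hz.1]
  exact ZStar.odd_card_oddCore.coprime_two_left

/-- Conjugating a Sylow subgroup by an isolated involution is conjugation by the odd core. -/
theorem exists_oddCore_conj (hz : IsIsolatedInvolution z) {p : ℕ} [Fact p.Prime] (P : Sylow p G)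
    {a : G} (ha : a ∈ zpowers z) : ∃ n ∈ oddCore G, (P : Subgroup G).map (MulAut.conj a).toMonoidHom =
      (P : Subgroup G).map (MulAut.conj n).toMonoidHom := by
  obtain ⟨k, rfl⟩ := mem_zpowers_iff.mp ha
  rcases Int.even_or_odd k with ⟨m, rfl⟩ | ⟨m, rfl⟩
  · refine ⟨1, one_mem _, ?_⟩
    rw [show z ^ (m + m) = 1 by rw [zpow_add, ← Commute.mul_zpow (Commute.refl z), inv_mul_self hz.1, one_zpow]]
  rw [show z ^ (2 * m + 1) = z by
    rw [zpow_add, zpow_mul, show z ^ (2 : ℤ) = 1 by rw [zpow_two]; exact inv_mul_self hz.1, one_zpow,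
      zpow_one, one_mul]]
  set H := oddCore G ⊔ (P : Subgroup G)
  have hle : ((z • P : Sylow p G) : Subgroup G) ≤ H := by
    rintro _ ⟨x, hx, rfl⟩
    show z * x * z⁻¹ ∈ H
    rw [show z * x * z⁻¹ = z * x * z⁻¹ * x⁻¹ * x by group]
    exact mul_mem (mem_sup_left (ZStar.zStarHolds G z hz x)) (mem_sup_right hx)
  obtain ⟨h, hh⟩ := MulAction.exists_smul_eq ↥H (P.subtype le_sup_right) ((z • P).subtype hle)
  rw [Sylow.smul_subtype] at hh
  have e : (h : G) • P = z • P := Sylow.subtype_injective hh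
  obtain ⟨n, hn, x, hx, he⟩ := mem_sup_of_normal_left.mp h.2
  refine ⟨n, hn, ?_⟩
  show ((z • P : Sylow p G) : Subgroup G) = ((n • P : Sylow p G) : Subgroup G)
  rw [← e, ← he, mul_smul, Sylow.smul_eq_iff_mem_normalizer.mpr (le_normalizer hx)]

/-- An isolated involution normalizes some Sylow `p`-subgroup. -/
theorem exists_invariant_sylow (hz : IsIsolatedInvolution z) (p : ℕ) [Fact p.Prime] :
    ∃ P : Sylow p G, z ∈ normalizer ((P : Subgroup G) : Set G) := by
  obtain ⟨P⟩ : Nonempty (Sylow p G) := inferInstance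
  obtain ⟨hAG, hcop, hsol⟩ := oddCore_facts hz
  obtain ⟨g, -, hg⟩ := Coprime.exists_conj_invariant hAG hcop hsol (P : Subgroup G)
    fun a ha => exists_oddCore_conj hz P ha
  exact ⟨g • P, hg (mem_zpowers z)⟩

/-- Invariant Sylow subgroups are conjugate under the centralizer. -/
theorem exists_centralizer_conj (hz : IsIsolatedInvolution z) {p : ℕ} [Fact p.Prime]
    {P P' : Sylow p G} (hP : z ∈ normalizer ((P : Subgroup G) : Set G))
    (hP' : z ∈ normalizer ((P' : Subgroup G) : Set G)) :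
    ∃ c ∈ centralizer ({z} : Set G), (c • P : Sylow p G) = P' := by
  obtain ⟨hAG, hcop, hsol⟩ := oddCore_facts hz
  obtain ⟨g, rfl⟩ := MulAction.exists_smul_eq G P P'
  obtain ⟨k, ⟨⟨hk, hk'⟩, hkc⟩, -⟩ := isolated_coset_unique hz g⁻¹
  rw [inv_inv] at hkc
  -- `g = (g k) k⁻¹` with `g k` central on `z` and `k` in the odd core
  have hkN : k ∈ oddCore G := by
    have h := ZStar.zStarHolds G z hz k
    rw [hk', show k⁻¹ * k⁻¹ = (k ^ 2)⁻¹ by rw [pow_two, mul_inv_rev]] at h
    obtain ⟨m, hm⟩ := exists_pow_eq_self_of_coprime (n := 2) (x := k) hk.coprime_two_left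
    rw [← hm]
    exact pow_mem (inv_mem_iff.mp h) m
  set c₁ := g * k with hc₁
  have hn : (k⁻¹ : G) • P = c₁⁻¹ • (g • P) := by rw [smul_smul, hc₁]; congr 1; group
  have hzc : c₁⁻¹ * z * c₁ = z := by
    rw [mul_assoc, ← mem_centralizer_singleton_iff.mp hkc, inv_mul_cancel_left]
  have hinv : zpowers z ≤ normalizer (((k⁻¹ • P : Sylow p G) : Subgroup G) : Set G) := by
    rw [zpowers_le, hn]
    refine le_normalizer_map (MulAut.conj c₁⁻¹).toMonoidHom ⟨z, hP', ?_⟩
    simpa using hzc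
  obtain ⟨c, hc, hce⟩ := Coprime.exists_centralizer_conj hAG hcop hsol (zpowers_le.mpr hP) hinv
    (inv_mem hkN) rfl
  refine ⟨c₁ * c, mul_mem hkc (centralizer_le (Set.singleton_subset_iff.mpr (mem_zpowers z)) hc.2), ?_⟩
  have : (c • P : Sylow p G) = k⁻¹ • P := Sylow.ext hce.symm
  rw [mul_smul, this, hn, smul_inv_smul]

theorem isolated_mk {H : Subgroup G} (hz : IsIsolatedInvolution z) (hzH : z ∈ H) :
    IsIsolatedInvolution (⟨z, hzH⟩ : H) :=
  ⟨by rw [Subgroup.orderOf_mk, hz.1], fun g hg => Subtype.ext (hz.2 g (hg.map H.subtype))⟩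

/-- A maximal invariant `p`-subgroup is a Sylow subgroup. -/
theorem maximal_invariant_sylow (hz : IsIsolatedInvolution z) {p : ℕ} [Fact p.Prime]
    (Q : Subgroup G) (hQ : IsPGroup p Q) (hzQ : z ∈ normalizer (Q : Set G))
    (hmax : ∀ R : Subgroup G, IsPGroup p R → z ∈ normalizer (R : Set G) → Q ≤ R → R = Q) :
    ∃ P : Sylow p G, (P : Subgroup G) = Q := by
  set H := normalizer (Q : Set G)
  obtain ⟨R, hR⟩ := exists_invariant_sylow (isolated_mk hz (H := H) hzQ) p
  have hRQ : (R : Subgroup H).map H.subtype = Q := by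
    refine hmax _ (R.isPGroup'.map _) ?_ fun q hq => ?_
    · exact le_normalizer_map H.subtype ⟨_, hR, rfl⟩
    · haveI : (Q.comap H.subtype).Normal :=
        (normal_subgroupOf_iff_le_normalizer le_normalizer).mpr le_rfl
      exact ⟨⟨q, le_normalizer hq⟩,
        IsPGroup.le_sylow_of_normal (hQ.comap_subtype (K := H)) R hq, rfl⟩
  obtain ⟨P, hQP⟩ := hQ.exists_le_sylow
  refine ⟨P, (hQP.eq_or_lt.resolve_right fun hlt => ?_).symm⟩
  have h1 := Cfsg.Lib.Fusion.lt_inf_normalizer P.isPGroup' hlt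
  obtain ⟨R', hR'⟩ := ((P.isPGroup'.to_le inf_le_left :
    IsPGroup p ((P : Subgroup G) ⊓ H : Subgroup G)).comap_subtype (K := H)).exists_le_sylow
  refine h1.not_ge (le_trans ?_ (le_of_eq hRQ))
  intro x hx
  haveI : (R : Subgroup H).Normal := by
    rw [show (R : Subgroup H) = Q.subgroupOf H by
      rw [← hRQ]; exact (comap_map_eq_self_of_injective H.subtype_injective _).symm]
    exact (normal_subgroupOf_iff_le_normalizer le_normalizer).mpr le_rfl
  letI := Sylow.unique_of_normal R (by infer_instance)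
  exact ⟨⟨x, hx.2⟩, Subsingleton.elim R' R ▸ hR' hx, rfl⟩

end Cfsg.Lib.Invol
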