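import Cfsg.Agent.Lib.Invol.Basic
import Mathlib.GroupTheory.Index

/-!
Counting pairs of involutions with a prescribed product and elements inverting a given element.
-/

set_option autoImplicit false

namespace Cfsg.Lib.Invol

variable {G : Type*} [Group G]

theorem conj_product_eq_inv {u v x : G} (hu : orderOf u = 2) (hv : orderOf v = 2) (h : u * v = x) :
    u * x * u⁻¹ = x⁻¹ := by
  subst h; exact conj_mul_left hu hv

/-- Pairs of involutions with product `x`, `x * x ≠ 1`, correspond to involutions inverting `x`. -/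
theorem card_pairs_eq_inverting {x : G} (hx : x * x ≠ 1) :
    Nat.card {p : G × G // orderOf p.1 = 2 ∧ orderOf p.2 = 2 ∧ p.1 * p.2 = x} =
      Nat.card {t : G // orderOf t = 2 ∧ t * x * t⁻¹ = x⁻¹} := by
  apply Nat.card_congr
  refine ⟨fun p => ⟨p.1.1, p.2.1, conj_product_eq_inv p.2.1 p.2.2.1 p.2.2.2⟩,
    fun t => ⟨(t.1, t.1 * x), t.2.1, ?_, by rw [← mul_assoc, inv_mul_self t.2.1, one_mul]⟩, ?_, ?_⟩
  · refine orderOf_eq_two_of (fun h => hx ?_) ?_
    · have hxt : x = t.1 := by
        have := eq_inv_of_mul_eq_one_right h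
        rwa [inv_eq_self t.2.1] at this
      rw [hxt]; exact inv_mul_self t.2.1
    · have h' := t.2.2
      rw [inv_eq_self t.2.1] at h'
      calc t.1 * x * (t.1 * x) = (t.1 * x * t.1) * x := by group
        _ = 1 := by rw [h', inv_mul_cancel]
  · rintro ⟨⟨u, v⟩, hu, hv, huv⟩
    simp only [Subtype.mk.injEq, Prod.mk.injEq, true_and]
    rw [← huv, ← mul_assoc, inv_mul_self hu, one_mul]
  · intro t; rfl

/-- Pairs of involutions with product an involution `x`. -/
theorem card_pairs_involution [Finite G] {x : G} (hx : orderOf x = 2) :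
    Nat.card {p : G × G // orderOf p.1 = 2 ∧ orderOf p.2 = 2 ∧ p.1 * p.2 = x} + 1 =
      Nat.card {t : G // orderOf t = 2 ∧ Commute t x} := by
  classical
  have hcomm : ∀ {u v : G}, orderOf u = 2 → orderOf v = 2 → u * v = x → Commute u x := by
    intro u v hu hv h
    have h' := conj_product_eq_inv hu hv h
    rw [inv_eq_self hx, mul_inv_eq_iff_eq_mul] at h'
    exact h'
  have e : {p : G × G // orderOf p.1 = 2 ∧ orderOf p.2 = 2 ∧ p.1 * p.2 = x} ≃
      {t : {t : G // orderOf t = 2 ∧ Commute t x} // t ≠ ⟨x, hx, Commute.refl x⟩} := by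
    refine ⟨fun p => ⟨⟨p.1.1, p.2.1, hcomm p.2.1 p.2.2.1 p.2.2.2⟩, ?_⟩,
      fun t => ⟨(t.1.1, t.1.1 * x), t.1.2.1, ?_, by rw [← mul_assoc, inv_mul_self t.1.2.1, one_mul]⟩,
      ?_, ?_⟩
    · intro h
      have h1 : p.1.1 = x := congrArg Subtype.val h
      have h2 := p.2.2.2
      rw [h1] at h2
      exact ne_one p.2.2.1 (mul_eq_left.mp h2)
    · refine orderOf_eq_two_of (fun h => t.2 (Subtype.ext ?_)) ?_
      · have := eq_inv_of_mul_eq_one_left h
        rwa [inv_eq_self hx] at this
      · show t.1.1 * x * (t.1.1 * x) = 1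
        rw [t.1.2.2.symm.mul_mul_mul_comm, inv_mul_self t.1.2.1, inv_mul_self hx, one_mul]
    · rintro ⟨⟨u, v⟩, hu, hv, huv⟩
      simp only [Subtype.mk.injEq, Prod.mk.injEq, true_and]
      rw [← huv, ← mul_assoc, inv_mul_self hu, one_mul]
    · intro t; rfl
  rw [Nat.card_congr e,
    ← Nat.card_congr (Equiv.optionSubtypeNe
      (⟨x, hx, Commute.refl x⟩ : {t : G // orderOf t = 2 ∧ Commute t x})), Finite.card_option]

/-- The elements inverting a real element form a coset of its centraliser. -/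
theorem card_inverting_of_conj (x g₀ : G) (hg₀ : g₀ * x * g₀⁻¹ = x⁻¹) :
    Nat.card {g : G // g * x * g⁻¹ = x⁻¹} = Nat.card (Subgroup.centralizer ({x} : Set G)) := by
  apply Nat.card_congr
  refine (Equiv.mulLeft g₀⁻¹).subtypeEquiv (fun g => ?_)
  simp only [Equiv.coe_mulLeft, Subgroup.mem_centralizer_singleton_iff]
  rw [← hg₀]
  constructor
  · intro h
    calc g₀⁻¹ * g * x = g₀⁻¹ * (g * x * g⁻¹) * g := by group
      _ = x * (g₀⁻¹ * g) := by rw [h]; group
  · intro h
    calc g * x * g⁻¹ = g₀ * (g₀⁻¹ * g * x) * g⁻¹ := by group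
      _ = g₀ * x * g₀⁻¹ := by rw [h]; group

theorem card_pairs_le_centralizer [Finite G] (x : G) :
    Nat.card {p : G × G // orderOf p.1 = 2 ∧ orderOf p.2 = 2 ∧ p.1 * p.2 = x} ≤
      Nat.card (Subgroup.centralizer ({x} : Set G)) := by
  rcases isEmpty_or_nonempty {p : G × G // orderOf p.1 = 2 ∧ orderOf p.2 = 2 ∧ p.1 * p.2 = x} with h | ⟨⟨p, hp⟩⟩
  · simp [Nat.card_of_isEmpty]
  · rw [← card_inverting_of_conj x p.1 (conj_product_eq_inv hp.1 hp.2.1 hp.2.2)]
    refine Nat.card_le_card_of_injective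
      (fun q => ⟨q.1.1, conj_product_eq_inv q.2.1 q.2.2.1 q.2.2.2⟩) ?_
    rintro ⟨⟨u, v⟩, _, _, h1⟩ ⟨⟨u', v'⟩, _, _, h2⟩ h
    simp only [Subtype.mk.injEq] at h
    subst h
    simp only [Subtype.mk.injEq, Prod.mk.injEq, true_and]
    exact mul_left_cancel (h1.trans h2.symm)

/-- In a finite group of even order the number of involutions is odd. -/
theorem odd_card_involutions [Finite G] (heven : Even (Nat.card G)) :
    Odd (Nat.card {t : G // orderOf t = 2}) := by
  classical
  have := Fintype.ofFinite G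
  let f : Function.End G := fun g : G => g⁻¹
  have hf : f ^ 2 ^ 1 = 1 := by
    rw [pow_one, pow_two]; funext g; exact inv_inv g
  have h := Equiv.Perm.card_fixedPoints_modEq (p := 2) hf
  have hsq : Fintype.card (Function.fixedPoints (fun g : G => g⁻¹)) =
      Nat.card {t : G // orderOf t = 2} + 1 := by
    rw [Fintype.card_eq_nat_card]
    have e : Function.fixedPoints (fun g : G => g⁻¹) ≃ Option {t : G // orderOf t = 2} :=
      { toFun := fun g => if h1 : g.1 = 1 then none else
          some ⟨g.1, orderOf_eq_two_of h1 (by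
            have hg : g.1⁻¹ = g.1 := g.2
            nth_rewrite 1 [← hg]; rw [inv_mul_cancel])⟩
        invFun := fun o => o.elim ⟨1, inv_one⟩ (fun t => ⟨t.1, inv_eq_self t.2⟩)
        left_inv := by
          rintro ⟨g, hg⟩
          by_cases h1 : g = 1
          · subst h1; simp
          · simp [h1]
        right_inv := by
          rintro (_ | ⟨t, ht⟩)
          · simp
          · simp [ne_one ht] }
    rw [Nat.card_congr e, Finite.card_option]
  rw [Nat.card_eq_fintype_card] at heven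
  have h2 : Fintype.card G ≡ Nat.card {t : G // orderOf t = 2} + 1 [MOD 2] := by
    rw [← hsq]; convert h
  rw [Nat.odd_iff]
  rw [Nat.even_iff] at heven
  unfold Nat.ModEq at h2
  omega

/-- A nontrivial element with odd-order centraliser that is real is inverted by an involution. -/
theorem exists_involution_inverting [Finite G] {x : G} (hx : x ≠ 1) (hreal : IsConj x x⁻¹)
    (hodd : Odd (Nat.card (Subgroup.centralizer ({x} : Set G)))) :
    ∃ t : G, orderOf t = 2 ∧ t * x * t⁻¹ = x⁻¹ := by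
  obtain ⟨g, hg⟩ := isConj_iff.mp hreal
  set C := Subgroup.centralizer ({x} : Set G) with hC
  have hx2 : x * x ≠ 1 := by
    intro h
    have h2 := orderOf_eq_two_of hx h
    have hd := Subgroup.orderOf_dvd_natCard (x := x) C
      (by rw [hC, Subgroup.mem_centralizer_singleton_iff])
    rw [h2] at hd
    exact (Nat.not_even_iff_odd.mpr hodd) (even_iff_two_dvd.mpr hd)
  obtain ⟨k, m, hm, hgm⟩ :=
    Nat.exists_eq_two_pow_mul_odd (n := orderOf g) (orderOf_pos g).ne'
  have hsq : g * g ∈ C := by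
    rw [hC, Subgroup.mem_centralizer_singleton_iff]
    have h2 : g * g * x * (g * g)⁻¹ = x := by
      calc g * g * x * (g * g)⁻¹ = g * (g * x * g⁻¹) * g⁻¹ := by group
        _ = x := by rw [hg, ← conj_inv, hg, inv_inv]
    exact mul_inv_eq_iff_eq_mul.mp h2
  obtain ⟨j, hj⟩ := hm
  have ht : g ^ m * x * (g ^ m)⁻¹ = x⁻¹ := by
    have hev : g ^ (2 * j) ∈ C := by rw [pow_mul, pow_two]; exact Subgroup.pow_mem _ hsq j
    rw [hC, Subgroup.mem_centralizer_singleton_iff] at hev
    rw [hj, pow_add, pow_one]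
    calc g ^ (2 * j) * g * x * (g ^ (2 * j) * g)⁻¹
        = g ^ (2 * j) * (g * x * g⁻¹) * (g ^ (2 * j))⁻¹ := by group
      _ = (g ^ (2 * j) * x * (g ^ (2 * j))⁻¹)⁻¹ := by rw [hg, conj_inv]
      _ = x⁻¹ := by rw [hev, mul_inv_cancel_right]
  have hs : (g ^ m) * (g ^ m) ∈ C := by
    rw [← pow_add, ← two_mul, pow_mul, pow_two]; exact Subgroup.pow_mem _ hsq m
  refine ⟨g ^ m, orderOf_eq_two_of ?_ ?_, ht⟩
  · intro h
    rw [h, one_mul, inv_one, mul_one] at ht
    exact hx2 (by nth_rewrite 2 [ht]; exact mul_inv_cancel x)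
  · have h1 : orderOf (g ^ m * g ^ m) ∣ 2 ^ k := by
      apply orderOf_dvd_of_pow_eq_one
      rw [← pow_add, ← pow_mul]
      apply orderOf_dvd_iff_pow_eq_one.mp
      rw [hgm]; exact ⟨2, by ring⟩
    have h2 := Subgroup.orderOf_dvd_natCard C hs
    apply orderOf_eq_one_iff.mp
    exact Nat.eq_one_of_dvd_coprimes
      (Nat.Coprime.pow_left k (Nat.coprime_two_left.mpr hodd)) h1 h2

end Cfsg.Lib.Invol
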