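import Cfsg.Agent.Lib.Coprime.Action
import Cfsg.Agent.Lib.Fusion.Alperin
import Cfsg.Agent.Lib.Invol.Isolated
import Cfsg.Agent.Lib.ZStar.Main
import Mathlib.GroupTheory.SemidirectProduct
import Mathlib.GroupTheory.Index

/-!
# A coprime automorphism centralizing the centralizer of an involution

If an automorphism of order prime to `|G|` fixes the centralizer of an involution `τ` pointwise,
then, counting the conjugates of `τ` in the cosets of its fixed subgroup `K`, either `K = G` or
`τ` is isolated modulo the core of `K`. With Z* this gives `K = G` for simple `G`.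
-/

set_option autoImplicit false

namespace Cfsg.Lib.Invol.FixedCentralizer

open scoped commutatorElement
open Subgroup

universe u

section Ambient

variable {X : Type u} [Group X] [Finite X] {A G : Subgroup X} {τ : X}

/-- Every invariant 2-subgroup is centralized. -/
theorem two_group_fixed (hAG : A ≤ normalizer (G : Set X))
    (hcop : (Nat.card A).Coprime (Nat.card G)) (hsol : Group.IsSolvable A)
    (hτG : τ ∈ G) (hτ : orderOf τ = 2) (hτA : τ ∈ centralizer (A : Set X))
    (hC : G ⊓ centralizer ({τ} : Set X) ≤ centralizer (A : Set X))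
    {U : Subgroup X} (hUG : U ≤ G) (hU : IsPGroup 2 U) (hAU : A ≤ normalizer (U : Set X)) :
    U ≤ centralizer (A : Set X) := by
  haveI : Fact (Nat.Prime 2) := ⟨Nat.prime_two⟩
  have hzp : IsPGroup 2 (zpowers τ) := IsPGroup.of_card (n := 1) (by rw [Nat.card_zpowers, hτ, pow_one])
  have hAz : A ≤ normalizer ((zpowers τ : Subgroup X) : Set X) := by
    intro a ha
    rw [mem_normalizer_iff_map_conj_eq]
    change (zpowers τ).map (MulAut.conj a).toMonoidHom = _
    rw [MonoidHom.map_zpowers]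
    congr 1
    show a * τ * a⁻¹ = τ
    rw [mem_centralizer_iff.mp hτA a ha, mul_inv_cancel_right]
  obtain ⟨P, hτP, hPA⟩ := Coprime.exists_invariant_sylow_ge hAG hcop (Or.inl hsol)
    (zpowers_le.mpr hτG) hzp hAz
  set T := (P : Subgroup G).map G.subtype with hT
  have hTG : T ≤ G := map_subtype_le _
  have hT2 : IsPGroup 2 T := P.2.map _
  set P0 := T ⊓ centralizer (A : Set X) with hP0
  have hτP0 : τ ∈ P0 := ⟨hτP (mem_zpowers τ), hτA⟩
  have hTfix : T ≤ centralizer (A : Set X) := by
    by_contra hne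
    have hlt : P0 < T := lt_of_le_of_ne inf_le_left fun e => hne (e ▸ inf_le_right)
    have hlt' := Cfsg.Lib.Fusion.lt_inf_normalizer hT2 hlt
    set N := T ⊓ normalizer (P0 : Set X)
    have hAN : A ≤ normalizer (N : Set X) := by
      have hAP0 : A ≤ normalizer (P0 : Set X) :=
        (le_inf hPA (le_trans (le_centralizer_iff.mp le_rfl)
          (centralizer_le_normalizer _))).trans inf_normalizer_le_normalizer_inf
      exact (le_inf hPA (hAP0.trans le_normalizer)).trans inf_normalizer_le_normalizer_inf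
    have hNG : N ≤ G := inf_le_left.trans hTG
    have h1 : ⁅N, A⁆ ≤ centralizer (A : Set X) := by
      rw [commutator_le]
      intro n hn a ha
      refine hC ⟨?_, ?_⟩
      · exact Coprime.commutator_le_of_le_normalizer hAG (commutator_mem_commutator (hNG hn) ha)
      · refine mem_centralizer_singleton_iff.mpr ?_
        have e1 : a * τ = τ * a := mem_centralizer_iff.mp hτA a ha
        have hm : n⁻¹ * τ * n ∈ P0 := by
          have := (mem_normalizer_iff.mp (inv_mem hn.2) τ).mp hτP0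
          simpa using this
        have e2 : a * (n⁻¹ * τ * n) = (n⁻¹ * τ * n) * a := mem_centralizer_iff.mp hm.2 a ha
        have e1' : a⁻¹ * τ = τ * a⁻¹ := by
          rw [eq_mul_inv_iff_mul_eq, mul_assoc, ← e1, inv_mul_cancel_left]
        rw [commutatorElement_def]
        calc n * a * n⁻¹ * a⁻¹ * τ = n * a * n⁻¹ * (a⁻¹ * τ) := by group
          _ = n * (a * (n⁻¹ * τ * n)) * n⁻¹ * a⁻¹ := by rw [e1']; group
          _ = τ * (n * a * n⁻¹ * a⁻¹) := by rw [e2]; group
    have h2 : ⁅N, A⁆ = ⊥ := Coprime.commutator_eq_bot_of_commutator_commutator_eq_bot hAN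
      (Coprime.coprime_of_le hNG hcop) (Or.inl hsol) (commutator_eq_bot_iff_le_centralizer.mpr h1)
    exact hlt'.not_ge (le_inf inf_le_left (commutator_eq_bot_iff_le_centralizer.mp h2))
  obtain ⟨Q, hUQ, hQA⟩ := Coprime.exists_invariant_sylow_ge hAG hcop (Or.inl hsol) hUG hU hAU
  obtain ⟨c, hc, hQ⟩ := Coprime.exists_centralizer_conj_sylow hAG hcop (Or.inl hsol) P Q hPA hQA
  refine hUQ.trans (hQ ▸ ?_)
  rintro _ ⟨x, hx, rfl⟩
  exact mul_mem (mul_mem hc.2 (hTfix hx)) (inv_mem hc.2)

end Ambient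

section Automorphism

variable {G : Type u} [Group G] [Finite G]

/-- The fixed subgroup of an automorphism. -/
def fixed (α : MulAut G) : Subgroup G := MonoidHom.eqLocus α.toMonoidHom (MonoidHom.id G)

theorem mem_fixed {α : MulAut G} {g : G} : g ∈ fixed α ↔ α g = g := Iff.rfl

theorem orderOf_pos_aut (α : MulAut G) : 0 < orderOf α := by
  haveI : Finite (MulAut G) :=
    Finite.of_injective (fun a : MulAut G => (a : G → G)) DFunLike.coe_injective
  exact orderOf_pos α

/-- Every 2-element of an invariant subgroup is conjugate in it to a fixed element. -/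
theorem exists_conj_fixed (α : MulAut G) (hcop : (orderOf α).Coprime (Nat.card G)) {τ : G}
    (hτ : orderOf τ = 2) (hC : centralizer ({τ} : Set G) ≤ fixed α) (L : Subgroup G)
    (hL : ∀ x ∈ L, α x ∈ L) {u : G} (hu : u ∈ L) (hu2 : orderOf u = 2) :
    ∃ l ∈ L, α (l * u * l⁻¹) = l * u * l⁻¹ := by
  haveI : Fact (Nat.Prime 2) := ⟨Nat.prime_two⟩
  haveI : Finite (MulAut G) :=
    Finite.of_injective (fun a : MulAut G => (a : G → G)) DFunLike.coe_injective
  let φ : zpowers α →* MulAut G := (zpowers α).subtype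
  haveI : Finite (G ⋊[φ] zpowers α) := Finite.of_equiv _ SemidirectProduct.equivProd.symm
  set Gx : Subgroup (G ⋊[φ] zpowers α) := (SemidirectProduct.inl : G →* _).range with hGx
  set Ax : Subgroup (G ⋊[φ] zpowers α) := (SemidirectProduct.inr : zpowers α →* _).range with hAx
  haveI : Gx.Normal := by
    rw [hGx, SemidirectProduct.range_inl_eq_ker_rightHom]; exact MonoidHom.normal_ker _
  have hAG : Ax ≤ normalizer (Gx : Set (G ⋊[φ] zpowers α)) := by
    rw [normalizer_eq_top]; exact le_top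
  have hA : Nat.card Ax = orderOf α := by
    rw [← Nat.card_zpowers α]
    exact (Nat.card_congr (MonoidHom.ofInjective SemidirectProduct.inr_injective).toEquiv).symm
  have hG : Nat.card Gx = Nat.card G :=
    (Nat.card_congr (MonoidHom.ofInjective SemidirectProduct.inl_injective).toEquiv).symm
  have hcop' : (Nat.card Ax).Coprime (Nat.card Gx) := by rw [hA, hG]; exact hcop
  have hsol : Group.IsSolvable Ax :=
    Group.isSolvable_of_surjective (SemidirectProduct.inr : zpowers α →* G ⋊[φ] zpowers α).rangeRestrict_surjective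
  have hcent : ∀ g : G, SemidirectProduct.inl g ∈ centralizer (Ax : Set (G ⋊[φ] zpowers α)) ↔
      α g = g := by
    intro g
    rw [mem_centralizer_iff]
    constructor
    · intro h
      have h1 := h (SemidirectProduct.inr ⟨α, mem_zpowers α⟩) ⟨_, rfl⟩
      have h2 := SemidirectProduct.inl_aut (φ := φ) ⟨α, mem_zpowers α⟩ g
      rw [h1, map_inv, mul_inv_cancel_right] at h2
      exact SemidirectProduct.inl_injective h2
    · rintro h _ ⟨⟨b, hb⟩, rfl⟩
      obtain ⟨k, rfl⟩ := mem_zpowers_iff.mp hb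
      have hstab : α ∈ MulAction.stabilizer (MulAut G) g := h
      have hk : (α ^ k) g = g := zpow_mem hstab k
      have h2 := SemidirectProduct.inl_aut (φ := φ) ⟨α ^ k, hb⟩ g
      rw [show φ ⟨α ^ k, hb⟩ g = g from hk, map_inv, eq_mul_inv_iff_mul_eq] at h2
      exact h2.symm
  have hτA := (hcent τ).mpr (hC (mem_centralizer_singleton_iff.mpr rfl))
  have hC' : Gx ⊓ centralizer ({SemidirectProduct.inl τ} : Set (G ⋊[φ] zpowers α)) ≤
      centralizer (Ax : Set (G ⋊[φ] zpowers α)) := by
    rintro _ ⟨⟨g, rfl⟩, hg⟩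
    refine (hcent g).mpr (hC (mem_centralizer_singleton_iff.mpr ?_))
    have := mem_centralizer_singleton_iff.mp hg
    rw [← map_mul, ← map_mul] at this
    exact SemidirectProduct.inl_injective this
  set Lx : Subgroup (G ⋊[φ] zpowers α) := L.map SemidirectProduct.inl with hLx
  have hLG : Lx ≤ Gx := map_le_range _ _
  have hgen : SemidirectProduct.inr ⟨α, mem_zpowers α⟩ ∈
      normalizer (Lx : Set (G ⋊[φ] zpowers α)) := by
    rw [mem_normalizer_iff_map_conj_eq]
    refine eq_of_le_of_card_ge ?_ (le_of_eq (Coprime.card_map_conj _ _).symm)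
    rintro _ ⟨_, ⟨x, hx, rfl⟩, rfl⟩
    refine ⟨α x, hL x hx, ?_⟩
    show SemidirectProduct.inl (φ ⟨α, mem_zpowers α⟩ x) = _
    rw [SemidirectProduct.inl_aut, map_inv]
    rfl
  have hAL : Ax ≤ normalizer (Lx : Set (G ⋊[φ] zpowers α)) := by
    rintro _ ⟨⟨b, hb⟩, rfl⟩
    obtain ⟨k, rfl⟩ := mem_zpowers_iff.mp hb
    have : (⟨α ^ k, hb⟩ : zpowers α) = (⟨α, mem_zpowers α⟩ : zpowers α) ^ k := Subtype.ext (by simp)
    rw [this, map_zpow]
    exact zpow_mem hgen k
  obtain ⟨R, hR⟩ := Coprime.exists_invariant_sylow hAL (Coprime.coprime_of_le hLG hcop')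
    (Or.inl hsol) 2
  set Rx : Subgroup (G ⋊[φ] zpowers α) := (R : Subgroup Lx).map Lx.subtype with hRx
  have hfix : Rx ≤ centralizer (Ax : Set (G ⋊[φ] zpowers α)) :=
    two_group_fixed hAG hcop' hsol (τ := SemidirectProduct.inl τ) ⟨τ, rfl⟩
      (by rw [orderOf_injective _ SemidirectProduct.inl_injective, hτ]) hτA hC'
      ((map_subtype_le _).trans hLG) (R.2.map _) hR
  have hU : IsPGroup 2 (zpowers (⟨SemidirectProduct.inl u, mem_map_of_mem _ hu⟩ : Lx)) :=
    IsPGroup.of_card (n := 1) (by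
      rw [Nat.card_zpowers, orderOf_mk, orderOf_injective _ SemidirectProduct.inl_injective, hu2,
        pow_one])
  obtain ⟨Q, hQ⟩ := hU.exists_le_sylow
  obtain ⟨⟨_, ⟨l, hl, rfl⟩⟩, hlQ⟩ := MulAction.exists_smul_eq Lx Q R
  refine ⟨l, hl, (hcent _).mp (hfix ?_)⟩
  have hmem : (⟨SemidirectProduct.inl u, mem_map_of_mem _ hu⟩ : Lx) ∈ (Q : Subgroup Lx) :=
    hQ (mem_zpowers _)
  rw [map_mul, map_mul, map_inv]
  refine ⟨⟨SemidirectProduct.inl l, mem_map_of_mem _ hl⟩ *
    ⟨SemidirectProduct.inl u, mem_map_of_mem _ hu⟩ *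
    ⟨SemidirectProduct.inl l, mem_map_of_mem _ hl⟩⁻¹, ?_, rfl⟩
  rw [← hlQ, Sylow.coe_subgroup_smul]
  exact ⟨_, hmem, rfl⟩

/-- An element conjugating `τ` to a fixed element is fixed. -/
theorem mem_fixed_of_conj_fixed (α : MulAut G) (hcop : (orderOf α).Coprime (Nat.card G)) {τ : G}
    (hC : centralizer ({τ} : Set G) ≤ fixed α) {g : G} (hg : g * τ * g⁻¹ ∈ fixed α) :
    g ∈ fixed α := by
  set c := g⁻¹ * α g with hc
  have hτ : α τ = τ := hC (mem_centralizer_singleton_iff.mpr rfl)
  have h1 : α g * τ * (α g)⁻¹ = g * τ * g⁻¹ := by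
    rw [mem_fixed] at hg
    rwa [map_mul, map_mul, map_inv, hτ] at hg
  have hcC : c ∈ centralizer ({τ} : Set G) := by
    refine mem_centralizer_singleton_iff.mpr ?_
    calc c * τ = g⁻¹ * (α g * τ * (α g)⁻¹) * α g := by rw [hc]; group
      _ = τ * c := by rw [h1, hc]; group
  have hcα : α c = c := hC hcC
  have hpow : ∀ m : ℕ, (α ^ m) g = g * c ^ m := by
    intro m
    induction m with
    | zero => simp
    | succ m ih =>
      rw [pow_succ', MulAut.mul_apply, ih, map_mul, map_pow, hcα, pow_succ' c,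
        ← mul_assoc, hc, mul_inv_cancel_left]
  have h2 := hpow (orderOf α)
  rw [pow_orderOf_eq_one, MulAut.one_apply] at h2
  have hc1 : c ^ orderOf α = 1 := mul_left_cancel (h2.symm.trans (mul_one g).symm)
  have h3 : orderOf c ∣ 1 := by
    have := Nat.dvd_gcd (orderOf_dvd_of_pow_eq_one hc1) (orderOf_dvd_natCard c)
    rwa [hcop.gcd_eq_one] at this
  have hc0 : c = 1 := orderOf_eq_one_iff.mp (Nat.dvd_one.mp h3)
  rw [mem_fixed]
  exact (inv_mul_eq_one.mp hc0).symm

/-- The number of conjugates of `τ` by elements of `H`. -/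
theorem card_conj_image (τ : G) (H : Subgroup G) :
    Nat.card ((fun g => g * τ * g⁻¹) '' (H : Set G)) = (centralizer ({τ} : Set G)).relIndex H := by
  set C := (centralizer ({τ} : Set G)).subgroupOf H
  let f : H ⧸ C → ((fun g => g * τ * g⁻¹) '' (H : Set G)) :=
    Quotient.lift (fun h : H => ⟨(h : G) * τ * (h : G)⁻¹, h, h.2, rfl⟩) fun a b hab => by
      have hab' : ((a⁻¹ * b : H) : G) ∈ centralizer ({τ} : Set G) :=
        (QuotientGroup.leftRel_apply.mp (show (QuotientGroup.leftRel C) a b from hab) : a⁻¹ * b ∈ C)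
      have := mem_centralizer_singleton_iff.mp hab'
      apply Subtype.ext
      show (a : G) * τ * (a : G)⁻¹ = b * τ * (b : G)⁻¹
      push_cast at this
      calc (a : G) * τ * (a : G)⁻¹ = a * (τ * ((a : G)⁻¹ * b)) * (b : G)⁻¹ := by group
        _ = b * τ * (b : G)⁻¹ := by rw [← this]; group
  refine (Nat.card_eq_of_bijective f ⟨?_, ?_⟩).symm
  · rintro ⟨a⟩ ⟨b⟩ hab
    refine Quotient.sound (QuotientGroup.leftRel_apply.mpr ?_)
    have h : (a : G) * τ * (a : G)⁻¹ = b * τ * (b : G)⁻¹ := congrArg Subtype.val hab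
    show ((a⁻¹ * b : H) : G) ∈ centralizer ({τ} : Set G)
    refine mem_centralizer_singleton_iff.mpr ?_
    push_cast
    calc (a : G)⁻¹ * b * τ = (a : G)⁻¹ * (b * τ * (b : G)⁻¹) * b := by group
      _ = τ * ((a : G)⁻¹ * b) := by rw [← h]; group
  · rintro ⟨_, h, hh, rfl⟩
    exact ⟨QuotientGroup.mk (⟨h, hh⟩ : H), rfl⟩

/-- A coprime automorphism fixing the centralizer of an involution of a non-abelian simple group
is trivial. -/
theorem eq_one_of_centralizer_le [IsSimpleGroup G] (hG : ¬ IsMulCommutative G) {τ : G}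
    (hτ : orderOf τ = 2) (α : MulAut G) (hcop : (orderOf α).Coprime (Nat.card G))
    (hC : centralizer ({τ} : Set G) ≤ fixed α) : α = 1 := by
  classical
  by_contra hα
  letI := Fintype.ofFinite G
  set K := fixed α with hK
  have hKtop : K ≠ ⊤ := fun h => hα (MulEquiv.ext fun g => mem_fixed.mp (h ▸ mem_top g : g ∈ K))
  set J : Finset G := Finset.univ.filter fun x => ∃ g : G, g * τ * g⁻¹ = x with hJ
  set JK : Finset G := J.filter fun x => x ∈ K with hJK
  have hJcard : J.card = (centralizer ({τ} : Set G)).index := by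
    rw [← relIndex_top_right, ← card_conj_image τ ⊤, ← Nat.card_eq_finsetCard]
    refine Nat.card_congr (Equiv.subtypeEquivRight fun x => ?_)
    simp [hJ]
  have hJKcard : JK.card = (centralizer ({τ} : Set G)).relIndex K := by
    rw [← card_conj_image τ K, ← Nat.card_eq_finsetCard]
    refine Nat.card_congr (Equiv.subtypeEquivRight fun x => ?_)
    simp only [hJK, hJ, Finset.mem_filter, Finset.mem_univ, true_and, Set.mem_image, SetLike.mem_coe]
    constructor
    · rintro ⟨⟨g, rfl⟩, hg⟩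
      exact ⟨g, mem_fixed_of_conj_fixed α hcop hC hg, rfl⟩
    · rintro ⟨g, hg, rfl⟩
      exact ⟨⟨g, rfl⟩, mul_mem (mul_mem hg (hC (mem_centralizer_singleton_iff.mpr rfl))) (inv_mem hg)⟩
  set Out : Finset G := J.filter fun x => x ∉ K with hOut
  set Q : Finset (G ⧸ K) := Finset.univ.erase (QuotientGroup.mk 1) with hQ
  have hQcard : Q.card + 1 = K.index := by
    rw [hQ, Finset.card_erase_add_one (Finset.mem_univ _), Finset.card_univ,
      ← Nat.card_eq_fintype_card]
    rfl
  have hsplit : Out.card + JK.card = Q.card * JK.card + JK.card := by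
    have h1 : Out.card + JK.card = J.card := by
      rw [add_comm]; exact Finset.card_filter_add_card_filter_not (fun x => x ∈ K)
    rw [h1, hJcard, hJKcard, ← relIndex_mul_index hC, ← hQcard]
    ring
  have hmap : ∀ x ∈ Out, (QuotientGroup.mk x : G ⧸ K) ∈ Q := by
    intro x hx
    refine Finset.mem_erase.mpr ⟨fun e => (Finset.mem_filter.mp hx).2 ?_, Finset.mem_univ _⟩
    have := QuotientGroup.eq.mp e.symm
    simpa using this
  have hfib : ∀ q ∈ Q, ∀ u0 ∈ Out.filter (fun x => (QuotientGroup.mk x : G ⧸ K) = q),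
      ∃ (u' : G) (f : G → G), u' ∈ K ∧
        (∀ v ∈ Out.filter (fun x => (QuotientGroup.mk x : G ⧸ K) = q),
          f v ∈ JK ∧ u' * f v ∈ K ∧ u0 * (u' * f v) * u0⁻¹ ∈ K) ∧
        Function.Injective f ∧ orderOf u' = 2 := by
    intro q _ u0 hu0
    simp only [Finset.mem_filter, hOut, hJ, Finset.mem_univ, true_and] at hu0
    obtain ⟨⟨⟨g0, hg0⟩, hu0K⟩, hq0⟩ := hu0
    have hord : orderOf u0 = 2 := by rw [← hg0, orderOf_conj_eq, hτ]
    have hinv : u0⁻¹ = u0 := inv_eq_of_mul_eq_one_right (inv_mul_self hord)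
    set D := K ⊓ K.comap (MulAut.conj u0).toMonoidHom with hD
    have hDu : ∀ d ∈ D, u0 * d * u0⁻¹ ∈ D := by
      intro d hd
      refine ⟨hd.2, ?_⟩
      show u0 * (u0 * d * u0⁻¹) * u0⁻¹ ∈ K
      rw [show u0 * (u0 * d * u0⁻¹) * u0⁻¹ = (u0 * u0) * d * (u0 * u0)⁻¹ by group,
        inv_mul_self hord]
      simpa using hd.1
    set C := centralizer (D : Set G) with hCD
    have hnorm : zpowers u0 ≤ normalizer (C : Set G) := by
      refine zpowers_le.mpr (mem_normalizer_iff.mpr fun x => ?_)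
      have key : ∀ y ∈ C, u0 * y * u0⁻¹ ∈ C := by
        intro y hy
        rw [hCD, mem_centralizer_iff] at hy ⊢
        intro d hd
        have h := hy _ (hDu d hd)
        calc d * (u0 * y * u0⁻¹) = u0⁻¹ * ((u0 * d * u0⁻¹) * y) * u0 := by rw [hinv]; simp only [mul_assoc, inv_mul_self hord, mul_one]; rw [← mul_assoc u0 u0, inv_mul_self hord, one_mul]
          _ = u0 * y * u0⁻¹ * d := by rw [h, hinv]; simp only [mul_assoc, inv_mul_self hord, mul_one]
      refine ⟨key x, fun h => ?_⟩
      have := key _ h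
      rw [show u0 * (u0 * x * u0⁻¹) * u0⁻¹ = (u0 * u0) * x * (u0 * u0)⁻¹ by group,
        inv_mul_self hord] at this
      simpa using this
    have hαC : ∀ c ∈ C, α c ∈ C := by
      intro c hc
      rw [hCD, mem_centralizer_iff] at hc ⊢
      intro d hd
      have := congrArg α (hc d hd)
      rwa [map_mul, map_mul, mem_fixed.mp hd.1] at this
    have hLα : ∀ x ∈ C ⊔ zpowers u0, α x ∈ C ⊔ zpowers u0 := by
      suffices h : (C ⊔ zpowers u0).map α.toMonoidHom ≤ C ⊔ zpowers u0 from
        fun x hx => h ⟨x, hx, rfl⟩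
      rw [Subgroup.map_sup, MonoidHom.map_zpowers]
      refine sup_le ?_ (zpowers_le.mpr ?_)
      · rintro _ ⟨c, hc, rfl⟩
        exact mem_sup_left (hαC c hc)
      · show α u0 ∈ C ⊔ zpowers u0
        have hc' : u0⁻¹ * α u0 ∈ C := by
          rw [hCD, mem_centralizer_iff]
          intro d hd
          have h1 : α (u0 * d * u0⁻¹) = u0 * d * u0⁻¹ := mem_fixed.mp hd.2
          rw [map_mul, map_mul, map_inv, mem_fixed.mp hd.1] at h1
          calc d * (u0⁻¹ * α u0) = u0⁻¹ * (u0 * d * u0⁻¹) * α u0 := by group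
            _ = u0⁻¹ * α u0 * d := by rw [← h1]; group
        have := mul_mem (mem_sup_right (S := C) (mem_zpowers u0)) (mem_sup_left hc')
        rwa [mul_inv_cancel_left] at this
    obtain ⟨l, hl, hlfix⟩ := exists_conj_fixed α hcop hτ hC (C ⊔ zpowers u0) hLα
      (mem_sup_right (mem_zpowers u0)) hord
    obtain ⟨c, hc, a, ha, rfl⟩ := Coprime.exists_mul_of_mem_sup hnorm hl
    have hca : c * a * u0 * (c * a)⁻¹ = c * u0 * c⁻¹ := by
      obtain ⟨k, rfl⟩ := mem_zpowers_iff.mp ha
      group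
    rw [hca] at hlfix
    refine ⟨c * u0 * c⁻¹, fun v => c * v * c⁻¹, hlfix, ?_, fun a b h => by simpa using h,
      by rw [orderOf_conj_eq, hord]⟩
    intro v hv
    simp only [Finset.mem_filter, hOut, hJ, Finset.mem_univ, true_and] at hv
    obtain ⟨⟨⟨g, hg⟩, -⟩, hqv⟩ := hv
    have hvord : orderOf v = 2 := by rw [← hg, orderOf_conj_eq, hτ]
    have hd : u0⁻¹ * v ∈ K := QuotientGroup.eq.mp (hq0.trans hqv.symm)
    have hdD : u0⁻¹ * v ∈ D := by
      refine ⟨hd, ?_⟩
      show u0 * (u0⁻¹ * v) * u0⁻¹ ∈ K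
      have := inv_mem hd
      rw [mul_inv_rev, inv_inv, inv_eq_of_mul_eq_one_right (inv_mul_self hvord)] at this
      rwa [mul_inv_cancel_left, hinv]
    have hcd : c * (u0⁻¹ * v) = u0⁻¹ * v * c := (mem_centralizer_iff.mp hc _ hdD).symm
    have hprod : c * u0 * c⁻¹ * (c * v * c⁻¹) = u0⁻¹ * v := by
      calc c * u0 * c⁻¹ * (c * v * c⁻¹) = c * (u0 * v) * c⁻¹ := by group
        _ = u0⁻¹ * v := by
          conv_lhs => rw [show u0 * v = u0⁻¹ * v by rw [hinv], hcd]
          group
    rw [hprod]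
    refine ⟨?_, hdD.1, hdD.2⟩
    rw [hJK, Finset.mem_filter, hJ, Finset.mem_filter]
    refine ⟨⟨Finset.mem_univ _, c * g, by rw [← hg]; group⟩, ?_⟩
    have h2 : c * v * c⁻¹ = (c * u0 * c⁻¹)⁻¹ * (u0⁻¹ * v) := by rw [← hprod]; group
    show c * v * c⁻¹ ∈ K
    rw [h2]
    exact mul_mem (inv_mem hlfix) hd
  have hle : ∀ q ∈ Q, (Out.filter fun x => (QuotientGroup.mk x : G ⧸ K) = q).card ≤ JK.card := by
    intro q hq
    rcases (Out.filter fun x => (QuotientGroup.mk x : G ⧸ K) = q).eq_empty_or_nonempty with h | ⟨u0, hu0⟩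
    · simp [h]
    · obtain ⟨u', f, -, hf, hinj, -⟩ := hfib q hq u0 hu0
      exact Finset.card_le_card_of_injOn f (fun v hv => (hf v hv).1) hinj.injOn
  have heq := (Finset.sum_eq_sum_iff_of_le hle).mp (by
    rw [← Finset.card_eq_sum_card_fiberwise hmap, Finset.sum_const, smul_eq_mul]
    omega)
  have hone : ∀ t ∈ JK, t = τ := by
    intro t ht
    have hτJK : τ ∈ JK := by
      simp only [hJK, hJ, Finset.mem_filter, Finset.mem_univ, true_and]
      exact ⟨⟨1, by simp⟩, hC (mem_centralizer_singleton_iff.mpr rfl)⟩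
    have hcore : τ⁻¹ * t ∈ K.normalCore := by
      intro g
      by_cases hg : (QuotientGroup.mk g⁻¹ : G ⧸ K) = QuotientGroup.mk 1
      · have hgK : g ∈ K := by simpa using QuotientGroup.eq.mp hg
        exact mul_mem (mul_mem hgK (mul_mem (inv_mem (Finset.mem_filter.mp hτJK).2)
          (Finset.mem_filter.mp ht).2)) (inv_mem hgK)
      · have hq : (QuotientGroup.mk g⁻¹ : G ⧸ K) ∈ Q :=
          Finset.mem_erase.mpr ⟨hg, Finset.mem_univ _⟩
        have hc := heq _ hq
        obtain ⟨u0, hu0⟩ : (Out.filter fun x => (QuotientGroup.mk x : G ⧸ K) = QuotientGroup.mk g⁻¹).Nonempty := by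
          rw [← Finset.card_pos, hc, Finset.card_pos]
          exact ⟨τ, hτJK⟩
        obtain ⟨u', f, hu'K, hf, hinj, hu'2⟩ := hfib _ hq u0 hu0
        have himg := Finset.eq_of_subset_of_card_le (Finset.image_subset_iff.mpr fun v hv => (hf v hv).1)
          (le_of_eq (by rw [Finset.card_image_of_injective _ hinj, hc]))
        obtain ⟨v, hv, hvf⟩ := Finset.mem_image.mp (himg.symm ▸ hτJK)
        obtain ⟨w, hw, hwf⟩ := Finset.mem_image.mp (himg.symm ▸ ht)
        have h1 := (hf v hv).2.2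
        have h2 := (hf w hw).2.2
        rw [hvf] at h1
        rw [hwf] at h2
        have h3 : u0 * (τ⁻¹ * t) * u0⁻¹ ∈ K := by
          have := mul_mem (inv_mem h1) h2
          rwa [show (u0 * (u' * τ) * u0⁻¹)⁻¹ * (u0 * (u' * t) * u0⁻¹) = u0 * (τ⁻¹ * t) * u0⁻¹ by
            group] at this
        have h4 : u0⁻¹ * g⁻¹ ∈ K := QuotientGroup.eq.mp (Finset.mem_filter.mp hu0).2
        have hu0ord : orderOf u0 = 2 := by
          obtain ⟨g', hg'⟩ := (Finset.mem_filter.mp (Finset.mem_filter.mp (Finset.mem_filter.mp hu0).1).1).2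
          rw [← hg', orderOf_conj_eq, hτ]
        have hu0inv : u0⁻¹ = u0 := inv_eq_of_mul_eq_one_right (inv_mul_self hu0ord)
        have h5 := mul_mem (mul_mem (inv_mem h4) h3) h4
        rw [show (u0⁻¹ * g⁻¹)⁻¹ * (u0 * (τ⁻¹ * t) * u0⁻¹) * (u0⁻¹ * g⁻¹) =
          g * (u0 * u0) * (τ⁻¹ * t) * (u0⁻¹ * u0⁻¹) * g⁻¹ by group, hu0inv, inv_mul_self hu0ord] at h5
        simpa using h5
    rcases (normalCore_normal K).eq_bot_or_eq_top with h | h
    · rw [h, mem_bot] at hcore
      exact (inv_mul_eq_one.mp hcore).symm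
    · exact absurd (eq_top_iff.mpr (h ▸ normalCore_le K)) hKtop
  have hiso : IsIsolatedInvolution τ := by
    refine ⟨hτ, fun g hg => hone _ ?_⟩
    simp only [hJK, hJ, Finset.mem_filter, Finset.mem_univ, true_and]
    exact ⟨⟨g, rfl⟩, hC (mem_centralizer_singleton_iff.mpr hg.symm.eq)⟩
  have hcore : oddCore G = ⊥ := by
    rcases (inferInstance : (oddCore G).Normal).eq_bot_or_eq_top with h | h
    · exact h
    · exfalso
      have h1 := ZStar.odd_card_oddCore (G := G)
      rw [h, card_top, ← Nat.not_even_iff_odd] at h1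
      exact h1 (even_iff_two_dvd.mpr (hτ ▸ orderOf_dvd_natCard τ))
  have hcen : τ ∈ center G := by
    refine mem_center_iff.mpr fun g => ?_
    have := ZStar.zStarHolds G τ hiso g
    rw [hcore, mem_bot, mul_inv_eq_one, mul_inv_eq_iff_eq_mul] at this
    exact this.symm
  rcases (inferInstance : (center G).Normal).eq_bot_or_eq_top with h | h
  · rw [h, mem_bot] at hcen
    rw [hcen, orderOf_one] at hτ
    omega
  · exact hG (isMulCommutative_iff.mpr fun a b => mem_center_iff.mp (h ▸ mem_top b : b ∈ center G) a)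

end Automorphism

end Cfsg.Lib.Invol.FixedCentralizer
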