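import Cfsg.Agent.Lib.Invol.Cyclic
import Cfsg.Agent.Lib.Invol.Counting
import Mathlib.Data.Set.Finite.Lemmas
import Mathlib.Algebra.BigOperators.Fin
import Mathlib.Data.Finite.Perm
import Mathlib.GroupTheory.IndexNormal

/-!
Brauer–Fowler style counting arguments and the Thompson order formula.
-/

set_option autoImplicit false

namespace Cfsg.Lib.Invol

variable {G : Type*} [Group G]

/-- Orbit-stabiliser for conjugation. -/
theorem card_conj_mul_centralizer (x : G) :
    Nat.card {y : G // IsConj x y} * Nat.card (Subgroup.centralizer ({x} : Set G)) = Nat.card G := by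
  set C := Subgroup.centralizer ({x} : Set G) with hC
  have key : ∀ a b : G, (QuotientGroup.mk a : G ⧸ C) = QuotientGroup.mk b ↔
      a * x * a⁻¹ = b * x * b⁻¹ := by
    intro a b
    rw [QuotientGroup.eq, hC, Subgroup.mem_centralizer_singleton_iff]
    constructor
    · intro h
      calc a * x * a⁻¹ = a * (x * (a⁻¹ * b)) * b⁻¹ := by group
        _ = b * x * b⁻¹ := by rw [← h]; group
    · intro h
      calc a⁻¹ * b * x = a⁻¹ * (b * x * b⁻¹) * b := by group
        _ = x * (a⁻¹ * b) := by rw [← h]; group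
  have e : G ⧸ C ≃ {y : G // IsConj x y} := by
    refine Equiv.ofBijective
      (fun q => ⟨q.out * x * q.out⁻¹, isConj_iff.mpr ⟨q.out, rfl⟩⟩) ⟨?_, ?_⟩
    · intro a b h
      have h' := (key a.out b.out).mpr (congrArg Subtype.val h)
      rwa [QuotientGroup.out_eq', QuotientGroup.out_eq'] at h'
    · rintro ⟨y, hy⟩
      obtain ⟨g, rfl⟩ := isConj_iff.mp hy
      refine ⟨QuotientGroup.mk g, Subtype.ext ?_⟩
      exact (key _ g).mp (QuotientGroup.out_eq' _)
  rw [← Nat.card_congr e, mul_comm, ← Subgroup.index_eq_card, Subgroup.card_mul_index]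

/-- The square of the number of involutions, split along the products of pairs. -/
theorem sq_card_involutions [Fintype G] :
    Nat.card {t : G // orderOf t = 2} ^ 2 =
      ∑ x : G, Nat.card {p : G × G // orderOf p.1 = 2 ∧ orderOf p.2 = 2 ∧ p.1 * p.2 = x} := by
  classical
  rw [pow_two, ← Nat.card_prod, ← Nat.card_sigma]
  exact Nat.card_congr
    ⟨fun p => ⟨p.1.1 * p.2.1, (p.1.1, p.2.1), p.1.2, p.2.2, rfl⟩,
      fun q => (⟨q.2.1.1, q.2.2.1⟩, ⟨q.2.1.2, q.2.2.2.1⟩),
      fun p => rfl, by rintro ⟨x, ⟨a, b⟩, ha, hb, h⟩; subst h; rfl⟩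

/-- A pair of involutions with product `1` is diagonal. -/
theorem card_pairs_one :
    Nat.card {p : G × G // orderOf p.1 = 2 ∧ orderOf p.2 = 2 ∧ p.1 * p.2 = 1} =
      Nat.card {t : G // orderOf t = 2} := by
  refine Nat.card_congr ⟨fun p => ⟨p.1.1, p.2.1⟩,
    fun t => ⟨(t.1, t.1), t.2, t.2, inv_mul_self t.2⟩, ?_, fun t => rfl⟩
  rintro ⟨⟨a, b⟩, ha, hb, h⟩
  have h' : a * b = 1 := h
  have ha' : orderOf a = 2 := ha
  have : b = a := by rw [eq_inv_of_mul_eq_one_right h', inv_eq_self ha']
  subst this; rfl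

/-- The subgroup of elements centralising or inverting `x`. -/
def starCentralizer (x : G) : Subgroup G where
  carrier := {g | g * x * g⁻¹ = x ∨ g * x * g⁻¹ = x⁻¹}
  one_mem' := Or.inl (by simp)
  mul_mem' := by
    intro a b ha hb
    have e : a * b * x * (a * b)⁻¹ = a * (b * x * b⁻¹) * a⁻¹ := by group
    have e2 : a * x⁻¹ * a⁻¹ = (a * x * a⁻¹)⁻¹ := conj_inv.symm
    show a * b * x * (a * b)⁻¹ = x ∨ a * b * x * (a * b)⁻¹ = x⁻¹
    rcases hb with h | h <;> rcases ha with h' | h' <;> rw [e, h]
    · exact Or.inl h'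
    · exact Or.inr h'
    · exact Or.inr (by rw [e2, h'])
    · exact Or.inl (by rw [e2, h', inv_inv])
  inv_mem' := by
    intro a ha
    show a⁻¹ * x * a⁻¹⁻¹ = x ∨ a⁻¹ * x * a⁻¹⁻¹ = x⁻¹
    rcases ha with h | h
    · left; conv_lhs => arg 1; arg 2; rw [← h]
      group
    · right
      have h2 : a * x⁻¹ * a⁻¹ = x := by rw [← conj_inv, h, inv_inv]
      conv_lhs => arg 1; arg 2; rw [← h2]
      group

theorem mem_starCentralizer {x g : G} :
    g ∈ starCentralizer x ↔ g * x * g⁻¹ = x ∨ g * x * g⁻¹ = x⁻¹ := Iff.rfl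

theorem card_starCentralizer [Finite G] {x g₀ : G} (hx : x * x ≠ 1) (hg₀ : g₀ * x * g₀⁻¹ = x⁻¹) :
    Nat.card (starCentralizer x) = 2 * Nat.card (Subgroup.centralizer ({x} : Set G)) := by
  classical
  have hdisj : ∀ g : G, g * x * g⁻¹ = x → ¬ g * x * g⁻¹ = x⁻¹ := by
    intro g h1 h2
    rw [h1] at h2
    exact hx (by nth_rewrite 2 [h2]; exact mul_inv_cancel x)
  have e : starCentralizer x ≃ {g : G // g * x * g⁻¹ = x} ⊕ {g : G // g * x * g⁻¹ = x⁻¹} := by
    refine (Equiv.subtypeEquivRight (fun g => mem_starCentralizer)).trans ?_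
    exact subtypeOrEquiv _ _ (Pi.disjoint_iff.mpr fun g => by
      simpa [Prop.disjoint_iff] using hdisj g)
  rw [Nat.card_congr e, Nat.card_sum, card_inverting_of_conj x g₀ hg₀, two_mul]
  congr 1
  refine Nat.card_congr (Equiv.subtypeEquivRight fun g => ?_)
  rw [Subgroup.mem_centralizer_singleton_iff, mul_inv_eq_iff_eq_mul]

theorem involution_ne_one_count [Finite G] {t : G} (ht : orderOf t = 2) :
    1 ≤ Nat.card {s : G // orderOf s = 2} := by
  have : Nonempty {s : G // orderOf s = 2} := ⟨⟨t, ht⟩⟩
  exact Nat.card_pos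

/-- Brauer–Fowler: without central involutions and without subgroups of index 2, a bound `h` on
the proper subgroups bounds the number of involutions. -/
theorem involution_bound [Finite G]
    (hno : ∀ x : G, orderOf x = 2 → x ∉ Subgroup.center G) (hidx : ∀ H : Subgroup G, H.index ≠ 2)
    {h : ℕ} (hh : ∀ H : Subgroup G, H ≠ ⊤ → Nat.card H ≤ h) :
    2 * (Nat.card {t : G // orderOf t = 2} * (Nat.card {t : G // orderOf t = 2} + 1)) +
        h ≤ h * (Nat.card G + Nat.card {t : G // orderOf t = 2}) := by
  classical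
  have := Fintype.ofFinite G
  set n := Nat.card {t : G // orderOf t = 2} with hn
  have hpt : ∀ x : G, 2 * Nat.card {p : G × G // orderOf p.1 = 2 ∧ orderOf p.2 = 2 ∧ p.1 * p.2 = x} +
      (if orderOf x = 2 then 4 else 0) + (if x = 1 then h else 0) ≤
      (if x = 1 then 2 * n else 0) + h + (if orderOf x = 2 then h else 0) := by
    intro x
    by_cases h1 : x = 1
    · subst h1
      rw [if_pos rfl, if_pos rfl, card_pairs_one, if_neg (by simp), if_neg (by simp), ← hn]
      omega
    rw [if_neg h1, if_neg h1]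
    by_cases h2 : orderOf x = 2
    · rw [if_pos h2, if_pos h2]
      have hp := card_pairs_involution h2
      have hproper : Subgroup.centralizer ({x} : Set G) ≠ ⊤ := by
        intro he
        apply hno x h2
        rw [Subgroup.mem_center_iff]
        intro g
        exact Subgroup.mem_centralizer_singleton_iff.mp (he ▸ Subgroup.mem_top g)
      have hc := hh _ hproper
      have hle : Nat.card {t : G // orderOf t = 2 ∧ Commute t x} + 1 ≤
          Nat.card (Subgroup.centralizer ({x} : Set G)) := by
        rw [← Finite.card_option]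
        refine Nat.card_le_card_of_injective (fun o => o.elim ⟨1, one_mem _⟩
          (fun t => ⟨t.1, Subgroup.mem_centralizer_singleton_iff.mpr t.2.2.eq⟩)) ?_
        rintro (_ | ⟨a, ha⟩) (_ | ⟨b, hb⟩) he <;> simp at he ⊢
        · exact absurd he.symm (ne_one hb.1)
        · exact absurd he (ne_one ha.1)
        · exact he
      omega
    · rw [if_neg h2, if_neg h2]
      simp only [Nat.add_zero, Nat.zero_add]
      have hx2 : x * x ≠ 1 := fun he => h2 (orderOf_eq_two_of h1 he)
      rcases isEmpty_or_nonempty {p : G × G // orderOf p.1 = 2 ∧ orderOf p.2 = 2 ∧ p.1 * p.2 = x} with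
        he | ⟨⟨p, hp⟩⟩
      · simp [Nat.card_of_isEmpty]
      have hg₀ := conj_product_eq_inv hp.1 hp.2.1 hp.2.2
      have hle := card_pairs_le_centralizer x
      have hs := card_starCentralizer hx2 hg₀
      by_cases htop : starCentralizer x = ⊤
      · exfalso
        rw [htop, Subgroup.card_top] at hs
        apply hidx (Subgroup.centralizer ({x} : Set G))
        have hci := Subgroup.card_mul_index (Subgroup.centralizer ({x} : Set G))
        rw [hs, mul_comm 2] at hci
        exact Nat.eq_of_mul_eq_mul_left Nat.card_pos hci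
      · have := hh _ htop
        omega
  have hsum := Finset.sum_le_sum (s := (Finset.univ : Finset G)) fun x _ => hpt x
  simp only [Finset.sum_add_distrib, ← Finset.mul_sum, ← sq_card_involutions, Finset.sum_ite_eq',
    Finset.mem_univ, if_true, Finset.sum_const, smul_eq_mul, Finset.card_univ, ← hn,
    ← Nat.card_eq_fintype_card] at hsum
  have hfil : ∀ c : ℕ, ∑ x : G, (if orderOf x = 2 then c else 0) = n * c := by
    intro c
    rw [← Finset.sum_filter, Finset.sum_const, smul_eq_mul, hn, Nat.card_eq_fintype_card,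
      Fintype.card_subtype]
  rw [hfil, hfil] at hsum
  nlinarith

/-- With a subgroup of maximal order among the proper ones. -/
theorem exists_max_proper [Finite G] [Nontrivial G] :
    ∃ H : Subgroup G, H ≠ ⊤ ∧ ∀ K : Subgroup G, K ≠ ⊤ → Nat.card K ≤ Nat.card H := by
  obtain ⟨H, hH, hmax⟩ := Set.exists_max_image {K : Subgroup G | K ≠ ⊤}
    (fun K => Nat.card K) (Set.toFinite _) ⟨⊥, bot_ne_top⟩
  exact ⟨H, hH, hmax⟩

/-- The quantitative Brauer–Fowler index bound. -/
theorem index_bound [Finite G] (heven : Even (Nat.card G))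
    (hno : ∀ x : G, orderOf x = 2 → x ∉ Subgroup.center G) :
    ∃ H : Subgroup G, H ≠ ⊤ ∧
      (H.index = 2 ∨ 2 * H.index * Nat.card {t : G // orderOf t = 2} ^ 2 <
        Nat.card G * (Nat.card G + Nat.card {t : G // orderOf t = 2})) := by
  by_cases hidx : ∃ H : Subgroup G, H.index = 2
  · obtain ⟨H, hH⟩ := hidx
    exact ⟨H, fun h => by rw [h, Subgroup.index_top] at hH; omega, Or.inl hH⟩
  push Not at hidx
  have : Nontrivial G := by
    rw [← Finite.one_lt_card_iff_nontrivial]
    have := Nat.card_pos (α := G)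
    have := (Nat.le_of_dvd this (even_iff_two_dvd.mp heven))
    omega
  obtain ⟨H, hH, hmax⟩ := exists_max_proper (G := G)
  refine ⟨H, hH, Or.inr ?_⟩
  have hb := involution_bound hno hidx hmax
  have hci := Subgroup.card_mul_index H
  have hpos : 0 < H.index := Nat.pos_of_ne_zero H.index_ne_zero_of_finite
  have hh : 0 < Nat.card H := Nat.card_pos
  set n := Nat.card {t : G // orderOf t = 2}
  set N := Nat.card G
  calc 2 * H.index * n ^ 2 < H.index * (2 * (n * (n + 1)) + Nat.card H) := by
        rw [mul_comm 2, mul_assoc]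
        apply Nat.mul_lt_mul_of_pos_left _ hpos
        nlinarith
    _ ≤ H.index * (Nat.card H * (N + n)) := Nat.mul_le_mul_left _ hb
    _ = N * (N + n) := by rw [← mul_assoc, mul_comm H.index, hci]

/-- A group of even order bigger than 2 has a proper subgroup of order above the cube root. -/
theorem exists_large_subgroup.{u} : ∀ (N : ℕ) {G : Type u} [Group G] [Finite G],
    Nat.card G = N → Even N → 2 < N → ∃ H : Subgroup G, H ≠ ⊤ ∧ N < Nat.card H ^ 3 := by
  intro N
  induction N using Nat.strong_induction_on with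
  | _ N ih =>
  intro G _ _ hG heven hgt
  by_cases hidx : ∃ H : Subgroup G, H.index = 2
  · obtain ⟨H, hH⟩ := hidx
    refine ⟨H, fun h => by rw [h, Subgroup.index_top] at hH; omega, ?_⟩
    have := Subgroup.card_mul_index H
    rw [hH, hG] at this
    have h2 : 2 ≤ Nat.card H := by omega
    calc N = Nat.card H * 2 := this.symm
      _ < Nat.card H * (Nat.card H * Nat.card H) := by
        apply Nat.mul_lt_mul_of_pos_left _ (by omega); nlinarith
      _ = Nat.card H ^ 3 := by ring
  push Not at hidx
  by_cases hz : ∃ z : G, orderOf z = 2 ∧ z ∈ Subgroup.center G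
  · obtain ⟨z, hz2, hzc⟩ := hz
    set Z := Subgroup.zpowers z with hZ
    have hZn : Z.Normal := ⟨fun a ha g => by
      obtain ⟨k, rfl⟩ := Subgroup.mem_zpowers_iff.mp ha
      have : g * z ^ k * g⁻¹ = z ^ k := mul_inv_eq_iff_eq_mul.mpr
        (Subgroup.mem_center_iff.mp (Subgroup.zpow_mem _ hzc k) g)
      rw [this]; exact Subgroup.zpow_mem _ (Subgroup.mem_zpowers z) k⟩
    have hZc : Nat.card Z = 2 := by rw [hZ, Nat.card_zpowers, hz2]
    have hq := Subgroup.card_mul_index Z
    rw [hZc, hG] at hq
    rw [Subgroup.index_eq_card] at hq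
    by_cases hqeven : Even (Nat.card (G ⧸ Z))
    · by_cases hq2 : 2 < Nat.card (G ⧸ Z)
      · obtain ⟨K, hK, hKc⟩ := ih _ (by omega) (G := G ⧸ Z) rfl hqeven hq2
        refine ⟨K.comap (QuotientGroup.mk' Z), ?_, ?_⟩
        · intro h
          apply hK
          rw [eq_top_iff]
          intro x _
          obtain ⟨a, rfl⟩ := QuotientGroup.mk_surjective x
          exact (h.ge (Subgroup.mem_top a) : a ∈ K.comap (QuotientGroup.mk' Z))
        · have h1 := Subgroup.card_mul_index (K.comap (QuotientGroup.mk' Z))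
          rw [Subgroup.index_comap_of_surjective _ (QuotientGroup.mk'_surjective Z), hG] at h1
          have h2 := Subgroup.card_mul_index K
          have hKi : 0 < K.index := Nat.pos_of_ne_zero K.index_ne_zero_of_finite
          have h3 : Nat.card (K.comap (QuotientGroup.mk' Z)) = 2 * Nat.card K := by
            apply Nat.eq_of_mul_eq_mul_right hKi
            rw [h1, mul_assoc, h2, hq]
          rw [h3, ← hq]
          nlinarith
      · refine ⟨Z, fun h => ?_, ?_⟩
        · rw [h, Subgroup.card_top, hG] at hZc; omega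
        · rw [hZc]; obtain ⟨k, hk⟩ := hqeven; omega
    · exfalso
      have : Fact (Nat.Prime 2) := ⟨Nat.prime_two⟩
      obtain ⟨T, hT⟩ := (IsPGroup.of_card (G := Z) (p := 2) (n := 1) (by rw [hZc, pow_one])).exists_le_sylow
      have hTZ : (T : Subgroup G) = Z := by
        refine (Subgroup.eq_of_le_of_card_ge hT ?_).symm
        obtain ⟨k, hk⟩ := T.2.exists_card_eq
        have hd : Nat.card (T : Subgroup G) ∣ N := hG ▸ Subgroup.card_subgroup_dvd_card _
        rw [hk, ← hq] at hd
        have hcop : Nat.Coprime (2 ^ k) (Nat.card (G ⧸ Z)) :=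
          Nat.Coprime.pow_left k (Nat.coprime_two_left.mpr (Nat.not_even_iff_odd.mp hqeven))
        rw [hk, hZc]
        exact Nat.le_of_dvd (by omega) (hcop.dvd_of_dvd_mul_right hd)
      obtain ⟨H, hH⟩ := exists_index_two_of_isCyclic (hG ▸ heven) T (by rw [hTZ, hZ]; infer_instance)
      exact hidx H hH
  push Not at hz
  have : Nontrivial G := by rw [← Finite.one_lt_card_iff_nontrivial]; omega
  obtain ⟨H, hH, hmax⟩ := exists_max_proper (G := G)
  refine ⟨H, hH, ?_⟩
  have hb := involution_bound hz hidx hmax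
  have : Fact (Nat.Prime 2) := ⟨Nat.prime_two⟩
  obtain ⟨t, ht⟩ := exists_prime_orderOf_dvd_card' (G := G) 2 (hG ▸ even_iff_two_dvd.mp heven)
  have hcprop : Subgroup.centralizer ({t} : Set G) ≠ ⊤ := by
    intro he
    apply hz t ht
    rw [Subgroup.mem_center_iff]
    intro g
    exact Subgroup.mem_centralizer_singleton_iff.mp (he ▸ Subgroup.mem_top g)
  have hc := hmax _ hcprop
  have horb := card_conj_mul_centralizer t
  rw [hG] at horb hb
  set n := Nat.card {s : G // orderOf s = 2}
  have hmn : Nat.card {y : G // IsConj t y} ≤ n := by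
    refine Nat.card_le_card_of_injective (fun y => ⟨y.1, ?_⟩) (fun a b hab => Subtype.ext (congrArg Subtype.val hab :))
    obtain ⟨g, hg⟩ := isConj_iff.mp y.2
    rw [← hg, orderOf_conj_eq, ht]
  set h := Nat.card H
  have h1 : N ≤ n * h := by
    rw [← horb]; exact Nat.mul_le_mul hmn hc
  have h2 : h ≤ N := by
    have := Nat.le_of_dvd (by omega) (hG ▸ Subgroup.card_subgroup_dvd_card H)
    exact this
  have hn1 : 1 ≤ n := involution_ne_one_count ht
  have hnN : n ≤ N := by
    rw [← hG]
    exact Nat.card_le_card_of_injective Subtype.val Subtype.val_injective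
  have h3 : n * n < h * N := by nlinarith
  have hpos : 0 < N := by omega
  by_contra hcon
  push Not at hcon
  -- `N ≤ n h` and `n² < h N` give `N < h³`
  have h4 : N * N ≤ n * n * (h * h) := by
    calc N * N ≤ (n * h) * (n * h) := Nat.mul_le_mul h1 h1
      _ = n * n * (h * h) := by ring
  have hh : 0 < h := Nat.card_pos
  have h5 : n * n * (h * h) < h * N * (h * h) := Nat.mul_lt_mul_of_pos_right h3 (by positivity)
  have h6 : h * N * (h * h) ≤ N * N := by
    calc h * N * (h * h) = h ^ 3 * N := by ring
      _ ≤ N * N := Nat.mul_le_mul_right N hcon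
  omega

end Cfsg.Lib.Invol

namespace Cfsg.Lib.Invol

variable {G : Type*} [Group G] [Finite G]

theorem normalCore_eq_bot_of_simple [IsSimpleGroup G] {H : Subgroup G} (hH : H ≠ ⊤) :
    H.normalCore = ⊥ := by
  rcases IsSimpleGroup.eq_bot_or_eq_top_of_normal H.normalCore inferInstance with h | h
  · exact h
  · exact absurd (top_le_iff.mp (h.ge.trans H.normalCore_le)) hH

/-- A simple group embeds in the symmetric group on the cosets of a proper subgroup. -/
theorem toPermHom_injective_of_simple [IsSimpleGroup G] {H : Subgroup G} (hH : H ≠ ⊤) :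
    Function.Injective (MulAction.toPermHom G (G ⧸ H)) := by
  rw [← MonoidHom.ker_eq_bot_iff, ← Subgroup.normalCore_eq_ker, normalCore_eq_bot_of_simple hH]

theorem card_dvd_factorial_of_simple [IsSimpleGroup G] {H : Subgroup G} (hH : H ≠ ⊤) :
    Nat.card G ∣ Nat.factorial H.index := by
  have h := Subgroup.card_dvd_of_injective _ (toPermHom_injective_of_simple hH)
  rwa [Nat.card_perm, ← Subgroup.index_eq_card] at h

/-- In a simple group of even order above 2 no involution is central and no subgroup has index 2. -/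
theorem simple_even_facts [IsSimpleGroup G] (heven : Even (Nat.card G)) (hgt : 2 < Nat.card G) :
    (∀ x : G, orderOf x = 2 → x ∉ Subgroup.center G) ∧ (∀ H : Subgroup G, H.index ≠ 2) := by
  constructor
  · intro x hx hxc
    have hn : (Subgroup.zpowers x).Normal := ⟨fun a ha g => by
      obtain ⟨k, rfl⟩ := Subgroup.mem_zpowers_iff.mp ha
      have : g * x ^ k * g⁻¹ = x ^ k := mul_inv_eq_iff_eq_mul.mpr
        (Subgroup.mem_center_iff.mp (Subgroup.zpow_mem _ hxc k) g)
      rw [this]; exact Subgroup.zpow_mem _ (Subgroup.mem_zpowers x) k⟩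
    rcases IsSimpleGroup.eq_bot_or_eq_top_of_normal _ hn with h | h
    · exact ne_one hx (Subgroup.zpowers_eq_bot.mp h)
    · have := Nat.card_zpowers x
      rw [h, Subgroup.card_top, hx] at this; omega
  · intro H hH
    rcases IsSimpleGroup.eq_bot_or_eq_top_of_normal _ (Subgroup.normal_of_index_eq_two hH) with h | h
    · rw [h, Subgroup.index_bot] at hH; omega
    · rw [h, Subgroup.index_top] at hH; omega

end Cfsg.Lib.Invol
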